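import Mathlib
import Cfsg.Prelude.Def_Characters
import Cfsg.Agent.Lib.Helper81.ClassAlg
import Cfsg.Agent.Lib.Helper19.BSChar3
import Cfsg.Agent.Lib.Helper19.IndChar
import Cfsg.Agent.Lib.Helper32.CyclicTI2
import Cfsg.Agent.Lib.Helper4.CharBasic
import Cfsg.Agent.Lib.Helper4.CharIntegral
import Cfsg.Agent.Lib.Helper4.IndSpan

set_option autoImplicit false

namespace Cfsg.Agent.Lib.Helper73

open Cfsg
open scoped ComplexConjugate

/-- The abstract configuration: `C` abelian TI of order `2q` with unique involution `z₀`,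
`N = C_G(z₀)` generalized dihedral over `C`, one class of involutions, every product of two
involutions conjugate into `C`. -/
structure ExcData {G : Type*} [Group G] (C N V : Subgroup G) (q n : ℕ) (z₀ : G) : Prop where
  hq : 0 < q
  cardC : Nat.card C = 2 * q
  cardN : Nat.card N = 4 * q
  cardG : Nat.card G = 4 * q * n
  comm : ∀ a ∈ C, ∀ b ∈ C, a * b = b * a
  hCN : C ≤ N
  z₀C : z₀ ∈ C
  oz₀ : orderOf z₀ = 2
  cardV : Nat.card V = 4
  hV : ∀ v ∈ V, v ≠ 1 → orderOf v = 2
  uniq : ∀ c ∈ C, orderOf c = 2 → c = z₀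
  cj : ∀ s : G, orderOf s = 2 → IsConj z₀ s
  cent : Subgroup.centralizer ({z₀} : Set G) = N
  ti : ∀ c ∈ C, c ≠ 1 → ∀ x : G, x⁻¹ * c * x ∈ C → x ∈ N
  inv : ∀ x ∈ N, x ∉ C → ∀ c ∈ C, x⁻¹ * c * x = c⁻¹
  invol : ∀ x ∈ N, x ∉ C → orderOf x = 2
  prod : ∀ s t : G, orderOf s = 2 → orderOf t = 2 → s * t ≠ 1 → ∃ x : G, x⁻¹ * (s * t) * x ∈ C
  u4 : ∃ u ∈ C, u ^ 4 ≠ 1

section basic
variable {G : Type*} [Group G]

theorem mul_self_of_orderOf_two {s : G} (h : orderOf s = 2) : s * s = 1 := by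
  have := pow_orderOf_eq_one s
  rwa [h, sq] at this

theorem inv_eq_self_of_orderOf_two {s : G} (h : orderOf s = 2) : s⁻¹ = s :=
  inv_eq_of_mul_eq_one_left (mul_self_of_orderOf_two h)

theorem ne_one_of_orderOf_two {s : G} (h : orderOf s = 2) : s ≠ 1 := by
  rintro rfl
  simp at h

theorem orderOf_two_of_mul_self {s : G} (h : s * s = 1) (h1 : s ≠ 1) : orderOf s = 2 :=
  orderOf_eq_prime (by rwa [sq]) h1

theorem orderOf_conj' (x s : G) : orderOf (x⁻¹ * s * x) = orderOf s := by
  have := (MulAut.conj x⁻¹).orderOf_eq s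
  simpa using this

variable {C N V : Subgroup G} {q n : ℕ} {z₀ : G}

theorem ExcData.invol_iff (D : ExcData C N V q n z₀) {c : G} (hc : c ∈ C) (hc1 : c ≠ 1) (s : G) :
    (orderOf s = 2 ∧ orderOf (s⁻¹ * c) = 2) ↔ (s ∈ N ∧ s ∉ C) := by
  constructor
  · rintro ⟨hs, ht⟩
    have hs' := inv_eq_self_of_orderOf_two hs
    have ht' := mul_self_of_orderOf_two ht
    have h1 : s⁻¹ * c * s = c⁻¹ := by
      have : s⁻¹ * c * s⁻¹ * c = 1 := by simpa [mul_assoc] using ht'
      have h2 : s⁻¹ * c * s⁻¹ = c⁻¹ := eq_inv_of_mul_eq_one_left this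
      rw [← h2, hs']
    have hsN : s ∈ N := D.ti c hc hc1 s (by rw [h1]; exact C.inv_mem hc)
    refine ⟨hsN, fun hsC => ?_⟩
    have h2 : s⁻¹ * c * s = c := by
      rw [mul_assoc, D.comm c hc s hsC, ← mul_assoc, inv_mul_cancel, one_mul]
    have h3 : c * c = 1 := by
      have : c = c⁻¹ := h2.symm.trans h1
      calc c * c = c * c⁻¹ := by rw [← this]
        _ = 1 := mul_inv_cancel c
    have h4 : c = z₀ := D.uniq c hc (orderOf_two_of_mul_self h3 hc1)
    have h5 : s = z₀ := D.uniq s hsC hs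
    rw [h4, h5, inv_mul_cancel] at ht
    simp at ht
  · rintro ⟨hsN, hsC⟩
    refine ⟨D.invol s hsN hsC, D.invol _ (N.mul_mem (N.inv_mem hsN) (D.hCN hc)) fun h => hsC ?_⟩
    have : s⁻¹ ∈ C := by
      have := C.mul_mem h (C.inv_mem hc)
      simpa [mul_assoc] using this
    simpa using C.inv_mem this

end basic


section chars
variable {G : Type*} [Group G] [Fintype G] {C N V : Subgroup G} {q n : ℕ} {z₀ : G}

open Cfsg.Agent.Lib.Helper81

open Classical in
/-- indicator of the involutions -/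
noncomputable def invInd (G : Type*) [Group G] : G → ℂ := fun g => if orderOf g = 2 then 1 else 0

open Classical in
/-- number of `x` conjugating `g` into `C` -/
noncomputable def conjCount (C : Subgroup G) : G → ℂ :=
  fun g => ∑ x : G, if x⁻¹ * g * x ∈ C then 1 else 0

open Classical in
/-- indicator of the identity -/
noncomputable def deltaOne (G : Type*) [Group G] : G → ℂ := fun g => if g = 1 then 1 else 0

omit [Fintype G] in
theorem invInd_conj (x g : G) : invInd G (x⁻¹ * g * x) = invInd G g := by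
  unfold invInd
  rw [orderOf_conj']

omit [Fintype G] in
theorem invInd_isClassFunction : IsClassFunction G (invInd G) := by
  intro g h
  have := invInd_conj h⁻¹ g
  simpa using this

theorem conjCount_conj (C : Subgroup G) (x₀ g : G) :
    conjCount C (x₀⁻¹ * g * x₀) = conjCount C g := by
  classical
  unfold conjCount
  rw [← Equiv.sum_comp (Equiv.mulLeft x₀) (fun x => if x⁻¹ * g * x ∈ C then (1 : ℂ) else 0)]
  apply Finset.sum_congr rfl
  intro x _
  simp [mul_assoc]

theorem conv_invInd_conj (x₀ k : G) :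
    conv (invInd G) (invInd G) (x₀⁻¹ * k * x₀) = conv (invInd G) (invInd G) k := by
  unfold conv
  rw [← Equiv.sum_comp (MulAut.conj x₀).toEquiv (fun g => invInd G g * invInd G (g⁻¹ * k))]
  apply Finset.sum_congr rfl
  intro g _
  have e1 : (MulAut.conj x₀).toEquiv g = x₀ * g * x₀⁻¹ := rfl
  rw [e1]
  have h1 : invInd G (x₀ * g * x₀⁻¹) = invInd G g := by
    have := invInd_conj x₀⁻¹ g
    simpa using this
  have h2 : invInd G ((x₀ * g * x₀⁻¹)⁻¹ * k) = invInd G (g⁻¹ * (x₀⁻¹ * k * x₀)) := by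
    rw [← invInd_conj x₀ ((x₀ * g * x₀⁻¹)⁻¹ * k)]
    congr 1
    simp [mul_assoc]
  rw [h1, h2]

open Classical in
theorem sum_ite_mem (H : Subgroup G) : (∑ x : G, if x ∈ H then (1 : ℂ) else 0) = Nat.card H := by
  rw [Finset.sum_boole, Nat.card_eq_fintype_card, Fintype.card_subtype]

omit [Fintype G] in
theorem ExcData.index_eq [Finite G] (D : ExcData C N V q n z₀) :
    (Subgroup.centralizer ({z₀} : Set G)).index = n := by
  rw [D.cent]
  have h := N.card_mul_index
  rw [D.cardN, D.cardG] at h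
  have hq := D.hq
  exact Nat.eq_of_mul_eq_mul_left (by positivity) h

omit [Fintype G] in
theorem ExcData.orderOf_two_iff (D : ExcData C N V q n z₀) (g : G) :
    orderOf g = 2 ↔ IsConj z₀ g := by
  refine ⟨D.cj g, fun h => ?_⟩
  obtain ⟨c, hc⟩ := isConj_iff.mp h
  rw [← hc]
  have := orderOf_conj' c⁻¹ z₀
  rw [inv_inv] at this
  rw [this, D.oz₀]

theorem ExcData.sum_invInd_mul (D : ExcData C N V q n z₀) {χ : G → ℂ}
    (hχ : IsClassFunction G χ) : ∑ g : G, invInd G g * χ g = n * χ z₀ := by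
  classical
  have h := Cfsg.Agent.Lib.Helper4.sum_isConj_mul z₀ hχ
  rw [D.index_eq] at h
  rw [← h]
  apply Finset.sum_congr rfl
  intro g _
  unfold invInd
  simp only [D.orderOf_two_iff]

theorem ExcData.sum_invInd (D : ExcData C N V q n z₀) : ∑ g : G, invInd G g = n := by
  have := D.sum_invInd_mul (χ := fun _ => 1) (fun _ _ => rfl)
  simpa using this


theorem ExcData.conjCount_of_mem (D : ExcData C N V q n z₀) {c : G} (hc : c ∈ C) (hc1 : c ≠ 1) :
    conjCount C c = 4 * q := by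
  classical
  unfold conjCount
  have h : ∀ x : G, (x⁻¹ * c * x ∈ C) ↔ x ∈ N := by
    intro x
    refine ⟨D.ti c hc hc1 x, fun hx => ?_⟩
    by_cases hxC : x ∈ C
    · exact C.mul_mem (C.mul_mem (C.inv_mem hxC) hc) hxC
    · rw [D.inv x hx hxC c hc]
      exact C.inv_mem hc
  simp only [h]
  rw [sum_ite_mem, D.cardN]
  push_cast
  ring

theorem ExcData.conv_of_mem (D : ExcData C N V q n z₀) {c : G} (hc : c ∈ C) (hc1 : c ≠ 1) :
    conv (invInd G) (invInd G) c = 2 * q := by
  classical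
  unfold conv
  have h : ∀ g : G, invInd G g * invInd G (g⁻¹ * c)
      = (if g ∈ N then (1 : ℂ) else 0) - (if g ∈ C then (1 : ℂ) else 0) := by
    intro g
    have h1 := D.invol_iff hc hc1 g
    unfold invInd
    by_cases hgN : g ∈ N
    · by_cases hgC : g ∈ C
      · have h2 : ¬ (orderOf g = 2 ∧ orderOf (g⁻¹ * c) = 2) := by
          rw [h1]; tauto
        rw [if_pos hgN, if_pos hgC]
        by_cases h3 : orderOf g = 2
        · have h4 : ¬ orderOf (g⁻¹ * c) = 2 := fun h4 => h2 ⟨h3, h4⟩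
          rw [if_neg h4]; simp
        · rw [if_neg h3]; simp
      · have h2 := h1.mpr ⟨hgN, hgC⟩
        rw [if_pos hgN, if_neg hgC, if_pos h2.1, if_pos h2.2]; simp
    · have hgC : g ∉ C := fun h => hgN (D.hCN h)
      have h2 : ¬ (orderOf g = 2 ∧ orderOf (g⁻¹ * c) = 2) := by
        rw [h1]; tauto
      rw [if_neg hgN, if_neg hgC]
      by_cases h3 : orderOf g = 2
      · have h4 : ¬ orderOf (g⁻¹ * c) = 2 := fun h4 => h2 ⟨h3, h4⟩
        rw [if_neg h4]; simp
      · rw [if_neg h3]; simp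
  simp only [h]
  rw [Finset.sum_sub_distrib, sum_ite_mem, sum_ite_mem, D.cardN, D.cardC]
  push_cast
  ring

theorem ExcData.conv_eq (D : ExcData C N V q n z₀) :
    conv (invInd G) (invInd G)
      = (1 / 2 : ℂ) • conjCount C - (((2 * q - 1) * n : ℂ)) • deltaOne G := by
  classical
  funext k
  simp only [Pi.sub_apply, Pi.smul_apply, smul_eq_mul]
  by_cases hk : k = 1
  · subst hk
    have h1 : conv (invInd G) (invInd G) 1 = n := by
      rw [← D.sum_invInd]
      unfold conv
      apply Finset.sum_congr rfl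
      intro g _
      unfold invInd
      rw [mul_one, orderOf_inv]
      split_ifs <;> simp
    have h2 : conjCount C 1 = 4 * q * n := by
      unfold conjCount
      have : ∀ x : G, x⁻¹ * 1 * x ∈ C := by intro x; simp [C.one_mem]
      simp only [this, if_true]
      rw [Finset.sum_const, Finset.card_univ, ← Nat.card_eq_fintype_card, D.cardG]
      simp
    rw [h1, h2]
    unfold deltaOne
    rw [if_pos rfl]
    ring
  · have hδ : deltaOne G k = 0 := by unfold deltaOne; rw [if_neg hk]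
    rw [hδ, mul_zero, sub_zero]
    by_cases hx : ∃ x₀ : G, x₀⁻¹ * k * x₀ ∈ C
    · obtain ⟨x₀, hx₀⟩ := hx
      have hc1 : x₀⁻¹ * k * x₀ ≠ 1 := by
        intro h
        apply hk
        have : k = x₀ * (x₀⁻¹ * k * x₀) * x₀⁻¹ := by simp [mul_assoc]
        rw [this, h]; simp
      rw [← conv_invInd_conj x₀ k, ← conjCount_conj C x₀ k, D.conv_of_mem hx₀ hc1,
        D.conjCount_of_mem hx₀ hc1]
      ring
    · have h1 : conjCount C k = 0 := by
        unfold conjCount
        apply Finset.sum_eq_zero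
        intro x _
        rw [if_neg (fun h => hx ⟨x, h⟩)]
      have h2 : conv (invInd G) (invInd G) k = 0 := by
        unfold conv
        apply Finset.sum_eq_zero
        intro g _
        unfold invInd
        by_cases h3 : orderOf g = 2
        · by_cases h4 : orderOf (g⁻¹ * k) = 2
          · exfalso
            apply hx
            have := D.prod g (g⁻¹ * k) h3 h4 (by simpa using hk)
            simpa using this
          · rw [if_neg h4, mul_zero]
        · rw [if_neg h3, zero_mul]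
      rw [h1, h2, mul_zero]

theorem omega_conjCount (C : Subgroup G) [Fintype C] {χ : G → ℂ} (hχ : IsClassFunction G χ) :
    omega χ (conjCount C) = Nat.card G * (∑ c : C, χ c) / χ 1 := by
  classical
  unfold omega conjCount
  rw [← Finset.sum_div]
  congr 1
  simp only [Finset.sum_mul]
  rw [Finset.sum_comm]
  have h : ∀ x : G, ∑ g : G, (if x⁻¹ * g * x ∈ C then (1 : ℂ) else 0) * χ g = ∑ c : C, χ c := by
    intro x
    rw [← Equiv.sum_comp (MulAut.conj x).toEquiv
      (fun g => (if x⁻¹ * g * x ∈ C then (1 : ℂ) else 0) * χ g)]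
    have e1 : ∀ g, (MulAut.conj x).toEquiv g = x * g * x⁻¹ := fun _ => rfl
    simp only [e1]
    have e2 : ∀ g, x⁻¹ * (x * g * x⁻¹) * x = g := by intro g; simp [mul_assoc]
    simp only [e2]
    have := Cfsg.Agent.Lib.Helper19.sum_extendByZero_mul C (fun _ => (1 : ℂ)) χ
    simp only [one_mul] at this
    rw [← this]
    apply Finset.sum_congr rfl
    intro g _
    by_cases hg : g ∈ C
    · rw [if_pos hg, Cfsg.Agent.Lib.Helper19.extendByZero_of_mem C _ hg, hχ g x]
    · rw [if_neg hg, Cfsg.Agent.Lib.Helper19.extendByZero_of_not_mem C _ hg, hχ g x]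
  simp only [h]
  rw [Finset.sum_const, Finset.card_univ, ← Nat.card_eq_fintype_card, nsmul_eq_mul]

theorem omega_deltaOne {χ : G → ℂ} (h : χ 1 ≠ 0) : omega χ (deltaOne G) = 1 := by
  classical
  unfold omega deltaOne
  rw [Finset.sum_eq_single 1]
  · rw [if_pos rfl, one_mul, div_self h]
  · intro g _ hg
    rw [if_neg hg]; simp
  · intro h; exact absurd (Finset.mem_univ _) h

theorem ExcData.key (D : ExcData C N V q n z₀) [Fintype C] {χ : G → ℂ}
    (hχ : IsIrrCharacter G χ) :
    (n : ℂ) * (χ z₀) ^ 2 = χ 1 * (2 * q * (∑ c : C, χ c) - (2 * q - 1) * χ 1) := by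
  have hcl : IsClassFunction G χ :=
    Cfsg.Agent.Lib.Helper4.isClassFunction_of_char (Cfsg.Agent.Lib.Helper4.isCharacter_of_irr hχ)
  have h1 := irr_one_ne_zero hχ
  have h2 := omega_conv hχ (invInd G) (invInd G) invInd_isClassFunction
  rw [D.conv_eq, omega_sub, omega_smul, omega_smul, omega_conjCount C hcl, omega_deltaOne h1] at h2
  have h3 : omega χ (invInd G) = n * χ z₀ / χ 1 := by
    unfold omega
    rw [← Finset.sum_div, D.sum_invInd_mul hcl]
  rw [h3, D.cardG] at h2
  have hn : (n : ℂ) ≠ 0 := by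
    have := D.cardG
    have hpos : 0 < Nat.card G := Nat.card_pos
    rw [this] at hpos
    have : n ≠ 0 := by rintro rfl; simp at hpos
    exact_mod_cast this
  push_cast at h2
  field_simp at h2
  linear_combination (-(1 : ℂ) / 2) * h2


theorem ExcData.indFun_apply_mem (D : ExcData C N V q n z₀) (θ : C → ℂ) (c : C) (hc : c ≠ 1) :
    indFun C θ (c : G) = θ c + θ c⁻¹ := by
  classical
  rw [Cfsg.Agent.Lib.Helper19.indFun_apply]
  have hc1 : (c : G) ≠ 1 := fun h => hc (Subtype.ext h)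
  have h : ∀ x : G, extendByZero C θ (x⁻¹ * (c : G) * x)
      = (if x ∈ C then (1 : ℂ) else 0) * θ c
        + ((if x ∈ N then (1 : ℂ) else 0) - (if x ∈ C then (1 : ℂ) else 0)) * θ c⁻¹ := by
    intro x
    by_cases hxN : x ∈ N
    · by_cases hxC : x ∈ C
      · have e : x⁻¹ * (c : G) * x = c := by
          rw [mul_assoc, D.comm c c.2 x hxC, ← mul_assoc, inv_mul_cancel, one_mul]
        rw [e, Cfsg.Agent.Lib.Helper19.extendByZero_coe, if_pos hxC, if_pos hxN]
        ring
      · have e : x⁻¹ * (c : G) * x = ((c⁻¹ : C) : G) := by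
          rw [D.inv x hxN hxC c c.2]; rfl
        rw [e, Cfsg.Agent.Lib.Helper19.extendByZero_coe, if_neg hxC, if_pos hxN]
        ring
    · have hxC : x ∉ C := fun h => hxN (D.hCN h)
      have e : x⁻¹ * (c : G) * x ∉ C := fun h => hxN (D.ti c c.2 hc1 x h)
      rw [Cfsg.Agent.Lib.Helper19.extendByZero_of_not_mem C θ e, if_neg hxC, if_neg hxN]
      ring
  simp only [h]
  rw [Finset.sum_add_distrib, ← Finset.sum_mul, ← Finset.sum_mul, Finset.sum_sub_distrib,
    sum_ite_mem, sum_ite_mem, D.cardN, D.cardC]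
  have hq : (q : ℂ) ≠ 0 := by exact_mod_cast D.hq.ne'
  push_cast
  field_simp
  ring

omit [Fintype G] in
theorem ExcData.exists_lam [Finite G] (D : ExcData C N V q n z₀) :
    ∃ lam : C →* ℂˣ, lam ⟨z₀, D.z₀C⟩ = 1 ∧ lam ≠ 1 ∧ lam ≠ lam⁻¹ := by
  obtain ⟨u, huC, hu4⟩ := D.u4
  let _ : CommGroup C :=
    { (inferInstance : Group C) with
      mul_comm := fun a b => Subtype.ext (D.comm a a.2 b b.2) }
  have hb : (⟨u, huC⟩ : C) ^ 4 ≠ 1 := by
    intro h
    apply hu4
    have := congrArg Subtype.val h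
    simpa using this
  have : NeZero (Monoid.exponent C) := ⟨(Monoid.exponent_ne_zero_of_finite)⟩
  have : NeZero ((Monoid.exponent C : ℕ) : ℂ) :=
    ⟨by exact_mod_cast Monoid.exponent_ne_zero_of_finite⟩
  obtain ⟨φ, hφ⟩ := CommGroup.exists_apply_ne_one_of_hasEnoughRootsOfUnity C ℂ hb
  rw [map_pow] at hφ
  refine ⟨φ ^ 2, ?_, ?_, ?_⟩
  · rw [MonoidHom.pow_apply, ← map_pow]
    have : (⟨z₀, D.z₀C⟩ : C) ^ 2 = 1 := by
      apply Subtype.ext
      have := mul_self_of_orderOf_two D.oz₀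
      simpa [sq] using this
    rw [this, map_one]
  · intro h
    apply hφ
    have := DFunLike.congr_fun h (⟨u, huC⟩ : C)
    rw [MonoidHom.pow_apply, MonoidHom.one_apply] at this
    calc φ ⟨u, huC⟩ ^ 4 = (φ ⟨u, huC⟩ ^ 2) ^ 2 := by rw [← pow_mul]
      _ = 1 := by rw [this]; simp
  · intro h
    apply hφ
    have := DFunLike.congr_fun h (⟨u, huC⟩ : C)
    rw [MonoidHom.inv_apply, MonoidHom.pow_apply] at this
    calc φ ⟨u, huC⟩ ^ 4 = (φ ⟨u, huC⟩ ^ 2) * (φ ⟨u, huC⟩ ^ 2) := by rw [← pow_add]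
      _ = (φ ⟨u, huC⟩ ^ 2) * (φ ⟨u, huC⟩ ^ 2)⁻¹ := by rw [← this]
      _ = 1 := mul_inv_cancel _


theorem exc_arith (q n a k : ℤ) (hq : 1 ≤ q) (ha : 1 ≤ a) (hk0 : 0 ≤ k) (hka : k ≤ a)
    (hn : n = 4 * q ^ 2 - 2 * q + 1) (h : 2 * n * (k - a) ^ 2 = 9 * q ^ 2 * a * (a + 1)) : False := by
  subst hn
  have h1 : (k - a) ^ 2 ≤ a ^ 2 := by nlinarith
  have h2 : 0 < 4 * q ^ 2 - 2 * q + 1 := by nlinarith
  have h3 : 2 * (4 * q ^ 2 - 2 * q + 1) * (k - a) ^ 2 ≤ 2 * (4 * q ^ 2 - 2 * q + 1) * a ^ 2 := by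
    apply mul_le_mul_of_nonneg_left h1
    linarith
  rw [h] at h3
  have h4 : 0 < q ^ 2 * a := by positivity
  have h5 : a ^ 2 ≤ q ^ 2 * a ^ 2 := by nlinarith [sq_nonneg a]
  have h6 : a ^ 2 ≤ q * a ^ 2 := by nlinarith [sq_nonneg a]
  nlinarith

theorem ExcData.false (D : ExcData C N V q n z₀) : False := by
  classical
  have : Fintype C := Fintype.ofFinite C
  have : Fintype V := Fintype.ofFinite V
  obtain ⟨lam, hz, hl1, hlinv⟩ := D.exists_lam
  set one : C → ℂ := fun _ => 1 with hone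
  set L : C → ℂ := fun c => ((lam c : ℂˣ) : ℂ) with hL
  set L' : C → ℂ := fun c => ((lam⁻¹ c : ℂˣ) : ℂ) with hL'
  set θ : C → ℂ := one - L with hθ
  set φ : G → ℂ := indFun C θ with hφ
  have hq : (q : ℂ) ≠ 0 := by exact_mod_cast D.hq.ne'
  have hl1' : lam⁻¹ ≠ 1 := by
    intro h
    apply hl1
    ext c
    have := DFunLike.congr_fun h c
    rw [MonoidHom.inv_apply, MonoidHom.one_apply] at this
    rw [inv_eq_one.mp this]
    rfl
  have i11 : classInner one one = 1 :=
    Cfsg.Agent.Lib.Helper20.classInner_irr_self Cfsg.Agent.Lib.Helper4.isIrrCharacter_one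
  have i1L : classInner one L = 0 := by
    have := Cfsg.Agent.Lib.Helper32.lin_inner_one_left lam
    rwa [if_neg hl1] at this
  have iL1 : classInner L one = 0 := by
    have := Cfsg.Agent.Lib.Helper32.lin_inner_one_right lam
    rwa [if_neg hl1] at this
  have iLL : classInner L L = 1 := by
    have := Cfsg.Agent.Lib.Helper32.lin_inner lam lam
    rwa [if_pos rfl] at this
  have i1L' : classInner one L' = 0 := by
    have := Cfsg.Agent.Lib.Helper32.lin_inner_one_left lam⁻¹
    rwa [if_neg hl1'] at this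
  have iL'1 : classInner L' one = 0 := by
    have := Cfsg.Agent.Lib.Helper32.lin_inner_one_right lam⁻¹
    rwa [if_neg hl1'] at this
  have iLL' : classInner L L' = 0 := by
    have := Cfsg.Agent.Lib.Helper32.lin_inner lam lam⁻¹
    rwa [if_neg hlinv] at this
  -- values of φ on C
  have hφ1 : φ 1 = 0 := by
    rw [hφ, Cfsg.Agent.Lib.Helper19.indFun_apply]
    have : ∀ x : G, extendByZero C θ (x⁻¹ * 1 * x) = 0 := by
      intro x
      have e : x⁻¹ * 1 * x = ((1 : C) : G) := by simp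
      rw [e, Cfsg.Agent.Lib.Helper19.extendByZero_coe]
      simp [hθ, hone, hL]
    rw [Finset.sum_congr rfl (fun x _ => this x)]
    simp
  have hφC : ∀ c : C, φ c = (one - L) c + (one - L') c := by
    intro c
    by_cases hc : c = 1
    · subst hc
      have : φ ((1 : C) : G) = 0 := hφ1
      rw [this]
      simp [hone, hL, hL']
    · rw [hφ, D.indFun_apply_mem θ c hc]
      simp [hθ, hone, hL, hL']
  have hφcl : IsClassFunction G φ := Cfsg.Agent.Lib.Helper19.indFun_isClassFunction C θ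
  have hnorm : classInner φ φ = 3 := by
    have h1 := Cfsg.Agent.Lib.Helper19.frobenius_reciprocity C θ φ hφcl
    have h2 : (fun h : C => φ h) = (one - L) + (one - L') := funext hφC
    rw [h2] at h1
    rw [← hφ] at h1
    rw [h1, hθ]
    simp only [Cfsg.Agent.Lib.Helper20.classInner_add_right,
      Cfsg.Agent.Lib.Helper20.classInner_sub_left, Cfsg.Agent.Lib.Helper20.classInner_sub_right,
      i11, i1L, iL1, iLL, i1L', iLL']
    norm_num
  have hφone : classInner φ (fun _ => 1) = 1 := by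
    have h1 := Cfsg.Agent.Lib.Helper19.frobenius_reciprocity C θ (fun _ => 1) (fun _ _ => rfl)
    rw [← hφ] at h1
    rw [h1, hθ]
    show classInner (one - L) one = 1
    rw [Cfsg.Agent.Lib.Helper20.classInner_sub_left, i11, iL1]
    norm_num
  have honeφ : classInner (fun _ => 1) φ = 1 := by
    rw [← Cfsg.Agent.Lib.Helper20.classInner_conj_symm, hφone]
    simp
  have hG11 : classInner (fun _ : G => (1 : ℂ)) (fun _ => 1) = 1 :=
    Cfsg.Agent.Lib.Helper20.classInner_irr_self Cfsg.Agent.Lib.Helper4.isIrrCharacter_one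
  have hgen : IsGeneralizedCharacter G φ := by
    refine ⟨indFun C one, indFun C L,
      Cfsg.Agent.Lib.Helper19.isCharacter_indFun C one Cfsg.Agent.Lib.Helper4.isCharacter_one,
      Cfsg.Agent.Lib.Helper19.isCharacter_indFun C L
        (Cfsg.Agent.Lib.Helper4.isCharacter_of_irr (Cfsg.Agent.Lib.Helper83.isIrr_of_hom lam)), ?_⟩
    rw [hφ, hθ, Cfsg.Agent.Lib.Helper4.indFun_sub]
  have hψgen : IsGeneralizedCharacter G (φ - fun _ => 1) :=
    Cfsg.Agent.Lib.Helper32.genChar_sub hgen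
      (Cfsg.Agent.Lib.Helper32.genChar_of_irr Cfsg.Agent.Lib.Helper4.isIrrCharacter_one)
  have hψnorm : classInner (φ - fun _ => 1) (φ - fun _ => 1) = 2 := by
    simp only [Cfsg.Agent.Lib.Helper20.classInner_sub_left,
      Cfsg.Agent.Lib.Helper20.classInner_sub_right, hnorm, hφone, honeφ, hG11]
    norm_num
  have hψ1 : (φ - (fun _ => 1 : G → ℂ)) 1 = -1 := by
    simp [hφ1]
  obtain ⟨μ₁, μ₂, h₁, h₂, -, hψ⟩ :=
    Cfsg.Agent.Lib.Helper19.genChar_norm_two_neg_one hψgen hψnorm hψ1
  have hval : ∀ g, φ g = 1 + μ₁ g - μ₂ g := by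
    intro g
    have := congrFun hψ g
    simp only [Pi.sub_apply] at this
    linear_combination this
  -- the three relations
  have e1 : μ₂ 1 = μ₁ 1 + 1 := by
    have := hval 1
    rw [hφ1] at this
    linear_combination this
  have hφz : φ z₀ = 0 := by
    have := hφC ⟨z₀, D.z₀C⟩
    simp only [Pi.sub_apply, hone, hL, hL', MonoidHom.inv_apply, hz] at this
    simpa using this
  have e2 : μ₂ z₀ = μ₁ z₀ + 1 := by
    have := hval z₀
    rw [hφz] at this
    linear_combination this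
  have hcardC : (Nat.card C : ℂ) = 2 * q := by rw [D.cardC]; push_cast; ring
  have hcardC0 : (Nat.card C : ℂ) ≠ 0 := by
    rw [hcardC]; exact mul_ne_zero two_ne_zero hq
  have sL : ∑ c : C, L c = 0 := by
    have := iL1
    unfold classInner at this
    simp only [hone, map_one, mul_one] at this
    rcases mul_eq_zero.mp this with h | h
    · exact absurd (inv_eq_zero.mp h) hcardC0
    · exact h
  have sL' : ∑ c : C, L' c = 0 := by
    have := iL'1
    unfold classInner at this
    simp only [hone, map_one, mul_one] at this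
    rcases mul_eq_zero.mp this with h | h
    · exact absurd (inv_eq_zero.mp h) hcardC0
    · exact h
  have sone : ∑ _c : C, (1 : ℂ) = 2 * q := by
    rw [Finset.sum_const, Finset.card_univ, ← Nat.card_eq_fintype_card, nsmul_eq_mul, mul_one,
      hcardC]
  have sφ : ∑ c : C, φ c = 4 * q := by
    simp only [hφC, Pi.sub_apply, hone]
    rw [Finset.sum_add_distrib, Finset.sum_sub_distrib, Finset.sum_sub_distrib, sone, sL, sL']
    ring
  have e3 : ∑ c : C, μ₂ c = ∑ c : C, μ₁ c - 2 * q := by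
    have : ∑ c : C, φ c = ∑ c : C, (1 : ℂ) + ∑ c : C, μ₁ c - ∑ c : C, μ₂ c := by
      rw [← Finset.sum_add_distrib, ← Finset.sum_sub_distrib]
      exact Finset.sum_congr rfl (fun c _ => hval c)
    rw [sφ, sone] at this
    linear_combination this
  have k0 := D.key (χ := fun _ => 1) Cfsg.Agent.Lib.Helper4.isIrrCharacter_one
  rw [sone] at k0
  have k1 := D.key h₁
  have k2 := D.key h₂
  rw [e1, e2, e3] at k2
  have main : (n : ℂ) * (μ₁ z₀ - μ₁ 1) ^ 2 = 8 * q ^ 2 * μ₁ 1 * (μ₁ 1 + 1) := by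
    linear_combination (μ₁ 1 + 1) * k1 - μ₁ 1 * k2 + μ₁ 1 * (μ₁ 1 + 1) * k0
  -- the four-group
  have hcl₁ : IsClassFunction G μ₁ :=
    Cfsg.Agent.Lib.Helper4.isClassFunction_of_char (Cfsg.Agent.Lib.Helper4.isCharacter_of_irr h₁)
  obtain ⟨k, hk⟩ := Cfsg.Agent.Lib.Helper20.isCharacter_classInner_nat
    (Cfsg.Agent.Lib.Helper4.isCharacter_restrict (Cfsg.Agent.Lib.Helper4.isCharacter_of_irr h₁) V)
    (Cfsg.Agent.Lib.Helper4.isIrrCharacter_one (G := V))
  have hVsum : ∑ v : V, μ₁ v = μ₁ 1 + 3 * μ₁ z₀ := by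
    have h : ∀ v : V, μ₁ v = μ₁ z₀ + (if v = 1 then μ₁ 1 - μ₁ z₀ else 0) := by
      intro v
      by_cases hv : v = 1
      · subst hv; simp
      · rw [if_neg hv, add_zero]
        have hv1 : (v : G) ≠ 1 := fun h => hv (Subtype.ext h)
        obtain ⟨c, hc⟩ := isConj_iff.mp (D.cj v (D.hV v v.2 hv1))
        rw [← hc, hcl₁]
    rw [Finset.sum_congr rfl (fun v _ => h v), Finset.sum_add_distrib, Finset.sum_const,
      Finset.card_univ, ← Nat.card_eq_fintype_card, D.cardV, Finset.sum_ite_eq' Finset.univ 1]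
    simp
    ring
  obtain ⟨a, ha0, ha⟩ := Cfsg.Agent.Lib.Helper32.irr_apply_one h₁
  have hb : μ₁ z₀ = (4 * (k : ℂ) - a) / 3 := by
    unfold classInner at hk
    simp only [map_one, mul_one] at hk
    rw [D.cardV] at hk
    have h' : ∑ v : V, μ₁ v = 4 * (k : ℂ) := by
      have h4 : ((4 : ℕ) : ℂ) ≠ 0 := by norm_num
      have := hk
      field_simp at this
      push_cast at this
      linear_combination this
    rw [hVsum, ha] at h'
    linear_combination (1 / 3 : ℂ) * h'
  have hnormle := Cfsg.Agent.Lib.Helper20.isCharacter_norm_le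
    (Cfsg.Agent.Lib.Helper4.isCharacter_of_irr h₁) z₀
  have hka : k ≤ a := by
    rw [ha, hb] at hnormle
    have h1 : ((4 * (k : ℂ) - a) / 3) = (((4 * (k : ℝ) - a) / 3 : ℝ) : ℂ) := by push_cast; ring
    rw [h1, Complex.norm_real, Complex.natCast_re, Real.norm_eq_abs] at hnormle
    have h2 := (abs_le.mp hnormle).2
    have h3 : (k : ℝ) ≤ a := by linarith
    exact_mod_cast h3
  have hnZ : (n : ℤ) = 4 * (q : ℤ) ^ 2 - 2 * q + 1 := by
    have : ((n : ℤ) : ℂ) = ((4 * (q : ℤ) ^ 2 - 2 * q + 1 : ℤ) : ℂ) := by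
      push_cast
      linear_combination k0
    exact_mod_cast this
  have hmainZ : 2 * (n : ℤ) * ((k : ℤ) - a) ^ 2 = 9 * (q : ℤ) ^ 2 * a * (a + 1) := by
    have : ((2 * (n : ℤ) * ((k : ℤ) - a) ^ 2 : ℤ) : ℂ) = ((9 * (q : ℤ) ^ 2 * a * (a + 1) : ℤ) : ℂ) := by
      rw [hb, ha] at main
      push_cast
      linear_combination (9 / 8 : ℂ) * main
    exact_mod_cast this
  exact exc_arith q n a k (by exact_mod_cast D.hq) (by exact_mod_cast ha0) (by positivity)
    (by exact_mod_cast hka) hnZ hmainZ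

end chars

end Cfsg.Agent.Lib.Helper73
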