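import Mathlib
import Cfsg.Prelude.Def_Local

set_option autoImplicit false

namespace Cfsg.Agent.Lib.Helper73

theorem relIndex_dvd_relIndex_of_le_normal {G : Type*} [Group G] (N : Subgroup G) [N.Normal]
    {M K : Subgroup G} (hNK : N ≤ K) (hMK : M ≤ K) : N.relIndex M ∣ N.relIndex K := by
  have h1 := Subgroup.relIndex_mul_relIndex N (M ⊔ N) K le_sup_right (sup_le hMK hNK)
  rw [Subgroup.relIndex_sup_right] at h1
  exact Dvd.intro _ h1

/-- `p`-solubility passes to subgroups. -/
theorem isPSolvable_subgroup {G : Type*} [Group G] {p : ℕ} [hp : Fact p.Prime]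
    (h : Cfsg.IsPSolvable p G) (K : Subgroup G) : Cfsg.IsPSolvable p K := by
  obtain ⟨n, H, h0, hlast, hmono, hnorm, hfac⟩ := h
  refine ⟨n, fun i => (H i).subgroupOf K, ?_, ?_, ?_, ?_, ?_⟩
  · simp [h0]
  · simp [hlast]
  · intro i j hij
    exact Subgroup.comap_mono (hmono hij)
  · intro i
    have := hnorm i
    infer_instance
  · intro i
    have := hnorm i.castSucc
    have hle : H i.castSucc ≤ H i.succ := hmono (Fin.castSucc_le_succ i)
    have h1 : ((H i.castSucc).subgroupOf K).relIndex ((H i.succ).subgroupOf K) =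
        (H i.castSucc).relIndex (H i.succ ⊓ K) := by
      rw [← Subgroup.inf_subgroupOf_right (H i.succ) K, Subgroup.relIndex_subgroupOf inf_le_right]
    have h2 : (H i.castSucc).relIndex (H i.succ ⊓ K) ∣ (H i.castSucc).relIndex (H i.succ) :=
      relIndex_dvd_relIndex_of_le_normal _ hle inf_le_left
    rw [h1]
    rcases hfac i with ⟨m, hm⟩ | hc
    · left
      rw [hm] at h2
      obtain ⟨j, -, hj⟩ := (Nat.dvd_prime_pow hp.out).mp h2
      exact ⟨j, hj⟩
    · right
      exact Nat.Coprime.coprime_dvd_left h2 hc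

end Cfsg.Agent.Lib.Helper73
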