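import Mathlib
import Cfsg.Prelude.Def_LieExceptional
import Cfsg.Agent.Lib.Helper12.L2Mob
import Cfsg.Agent.Lib.Helper7.SL2Center
import Cfsg.Agent.Lib.Helper54.ZassCount
import Cfsg.Agent.Lib.Helper9.ZassPerm
import Cfsg.Agent.Lib.Helper76.ZassField
import Cfsg.Agent.Lib.Helper12.ZassInvEven
import Cfsg.Agent.Lib.Helper54.ZassInvOdd

/-!
# Zassenhaus groups with abelian kernel and two-point stabiliser of order `(n-1)/2` are `PSL(2,q)`
-/

set_option autoImplicit false

namespace Cfsg.Agent.Lib.Helper73.ZassMain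

open MulAction

/-- coordinatisation: the permutation-group part. -/
theorem coord {G Ω : Type*} [Group G] [Finite G] [MulAction G Ω] [FaithfulSMul G Ω]
    {x o : Ω} (hxo : x ≠ o) (F : Subgroup G) (hFx : ∀ u ∈ F, u • x = x)
    (hreg : ∀ y : Ω, y ≠ x → ∃ u ∈ F, u • o = y) (hfree : ∀ u ∈ F, u • o = o → u = 1)
    (w : G) (hwx : w • x = o) (hwo : w • o = x) (hww : w * w = 1)
    (hinv : ∀ h : G, h • x = x → h • o = o → w * h * w⁻¹ = h⁻¹)
    (hnorm : ∀ h : G, h • x = x → h • o = o → ∀ u ∈ F, h * u * h⁻¹ ∈ F)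
    (K : Type) [Field K] [Fintype K] (h2 : (2 : K) ≠ 0) (φ σ : G → K)
    (hsurj : ∀ a : K, ∃ u ∈ F, φ u = a) (hinj : ∀ u ∈ F, ∀ v ∈ F, φ u = φ v → u = v)
    (hadd : ∀ u ∈ F, ∀ v ∈ F, φ (u * v) = φ u + φ v)
    (hmul : ∀ h : G, h • x = x → h • o = o → ∀ u ∈ F, φ (h * u * h⁻¹) = σ h * φ u)
    (hsq : ∀ c : K, (c ≠ 0 ∧ IsSquare c) ↔ ∃ h : G, (h • x = x ∧ h • o = o) ∧ σ h = c)
    (hcard : Nat.card G ≤ Nat.card (Matrix.ProjectiveSpecialLinearGroup (Fin 2) K)) :
    Nonempty (G ≃* Matrix.ProjectiveSpecialLinearGroup (Fin 2) K) := by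
  classical
  have hφ1 : φ 1 = 0 := by
    have := hadd 1 F.one_mem 1 F.one_mem
    rw [mul_one] at this
    linear_combination -this
  have hne : ∀ u ∈ F, u • o ≠ x := by
    intro u hu h
    apply hxo
    have : u • o = u • x := by rw [h, hFx u hu]
    exact (smul_left_cancel _ this).symm
  have hfree2 : ∀ u ∈ F, ∀ v ∈ F, u • o = v • o → u = v := by
    intro u hu v hv h
    have h1 : (v⁻¹ * u) • o = o := by rw [mul_smul, h, inv_smul_smul]
    have h3 := hfree _ (F.mul_mem (F.inv_mem hv) hu) h1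
    exact (inv_mul_eq_one.mp h3).symm
  let e : Option K → Ω := fun a => a.elim x (fun a => (Classical.choose (hsurj a)) • o)
  have he_some : ∀ u ∈ F, e (some (φ u)) = u • o := by
    intro u hu
    have h := Classical.choose_spec (hsurj (φ u))
    show (Classical.choose (hsurj (φ u))) • o = u • o
    rw [hinj _ h.1 u hu h.2]
  have he_none : e none = x := rfl
  have he_inj : Function.Injective e := by
    intro a b hab
    cases a with
    | none =>
      cases b with
      | none => rfl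
      | some b =>
        obtain ⟨v, hv, rfl⟩ := hsurj b
        rw [he_none, he_some v hv] at hab
        exact absurd hab.symm (hne v hv)
    | some a =>
      cases b with
      | none =>
        obtain ⟨u, hu, rfl⟩ := hsurj a
        rw [he_none, he_some u hu] at hab
        exact absurd hab (hne u hu)
      | some b =>
        obtain ⟨u, hu, rfl⟩ := hsurj a
        obtain ⟨v, hv, rfl⟩ := hsurj b
        rw [he_some u hu, he_some v hv] at hab
        rw [hfree2 u hu v hv hab]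
  have he_surj : Function.Surjective e := by
    intro y
    by_cases hy : y = x
    · exact ⟨none, hy.symm⟩
    · obtain ⟨u, hu, rfl⟩ := hreg y hy
      exact ⟨some (φ u), he_some u hu⟩
  let E : Option K ≃ Ω := Equiv.ofBijective e ⟨he_inj, he_surj⟩
  have hE : ∀ a, E a = e a := fun _ => rfl
  let ρ : G →* Equiv.Perm (Option K) :=
    (E.symm.permCongrHom.toMonoidHom).comp (MulAction.toPermHom G Ω)
  have hρ : ∀ (g : G) (a : Option K), ρ g a = E.symm (g • E a) := fun _ _ => rfl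
  have hρ' : ∀ (g : G) (a b : Option K), g • e a = e b → ρ g a = b := by
    intro g a b h
    rw [hρ, hE, h, ← hE, Equiv.symm_apply_apply]
  have hρ'' : ∀ (g : G) (a b : Option K), ρ g a = b → g • e a = e b := by
    intro g a b h
    rw [hρ] at h
    rw [← hE, ← hE, ← h, Equiv.apply_symm_apply]
  have hρinj : Function.Injective ρ := by
    intro g g' h
    apply FaithfulSMul.eq_of_smul_eq_smul (α := Ω)
    intro y
    obtain ⟨a, rfl⟩ := he_surj y
    have := congrArg (fun p : Equiv.Perm (Option K) => p a) h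
    simp only [hρ] at this
    exact E.symm.injective this
  -- translations
  have hT : ∀ u ∈ F, ρ u none = none ∧ ∀ a, ρ u (some a) = some (a + φ u) := by
    intro u hu
    refine ⟨hρ' _ _ _ (by rw [he_none]; exact hFx u hu), ?_⟩
    intro a
    obtain ⟨v, hv, rfl⟩ := hsurj a
    apply hρ'
    rw [he_some v hv, add_comm, ← hadd u hu v hv, he_some _ (F.mul_mem hu hv), mul_smul]
  -- dilations
  have hDil : ∀ h : G, h • x = x → h • o = o →
      ρ h none = none ∧ ∀ a, ρ h (some a) = some (σ h * a) := by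
    intro h hx ho
    refine ⟨hρ' _ _ _ (by rw [he_none]; exact hx), ?_⟩
    intro a
    obtain ⟨v, hv, rfl⟩ := hsurj a
    apply hρ'
    rw [he_some v hv, ← hmul h hx ho v hv, he_some _ (hnorm h hx ho v hv), mul_smul, mul_smul,
      inv_smul_eq_iff.mpr ho.symm]
  let Γ : Subgroup (Equiv.Perm (Option K)) := ρ.range
  have hU : ∀ b : K, ∃ γ ∈ Γ, γ none = none ∧ ∀ a, γ (some a) = some (1 * a + b) := by
    intro b
    obtain ⟨u, hu, rfl⟩ := hsurj b
    refine ⟨ρ u, ⟨u, rfl⟩, (hT u hu).1, ?_⟩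
    intro a
    rw [(hT u hu).2, one_mul]
  have hD : ∀ s : K, s ≠ 0 → IsSquare s →
      ∃ γ ∈ Γ, γ none = none ∧ ∀ a, γ (some a) = some (s * a) := by
    intro s hs0 hs
    obtain ⟨h, ⟨hx, ho⟩, rfl⟩ := (hsq s).mp ⟨hs0, hs⟩
    exact ⟨ρ h, ⟨h, rfl⟩, (hDil h hx ho).1, (hDil h hx ho).2⟩
  have hB : ∀ γ ∈ Γ, γ none = none →
      ∃ s b : K, s ≠ 0 ∧ IsSquare s ∧ ∀ a, γ (some a) = some (s * a + b) := by
    rintro _ ⟨g, rfl⟩ hg
    have hgx : g • x = x := hρ'' g none none hg
    have hgo : g • o ≠ x := by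
      intro h
      apply hxo
      have : g • o = g • x := by rw [h, hgx]
      exact (smul_left_cancel _ this).symm
    obtain ⟨u, hu, huo⟩ := hreg _ hgo
    have hhx : (u⁻¹ * g) • x = x := by
      rw [mul_smul, hgx, inv_smul_eq_iff, hFx u hu]
    have hho : (u⁻¹ * g) • o = o := by
      rw [mul_smul, ← huo, inv_smul_smul]
    have hs := (hsq (σ (u⁻¹ * g))).mpr ⟨_, ⟨hhx, hho⟩, rfl⟩
    refine ⟨σ (u⁻¹ * g), φ u, hs.1, hs.2, ?_⟩
    intro a
    have hg' : ρ g = ρ u * ρ (u⁻¹ * g) := by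
      rw [← map_mul, mul_inv_cancel_left]
    rw [hg', Equiv.Perm.mul_apply, (hDil _ hhx hho).2, (hT u hu).2]
  have he0 : e (some 0) = o := by
    rw [← hφ1, he_some 1 F.one_mem, one_smul]
  have hw0 : ρ w none = some 0 := hρ' _ _ _ (by rw [he_none, he0]; exact hwx)
  have hw1 : ρ w (some 0) = none := hρ' _ _ _ (by rw [he_none, he0]; exact hwo)
  have hww' : ρ w * ρ w = 1 := by rw [← map_mul, hww, map_one]
  have hinv' : ∀ γ ∈ Γ, γ none = none → γ (some 0) = some 0 → ρ w * γ * (ρ w)⁻¹ = γ⁻¹ := by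
    rintro _ ⟨g, rfl⟩ h1 h3
    have hgx : g • x = x := hρ'' g none none h1
    have hgo : g • o = o := by
      have := hρ'' g _ _ h3
      rwa [he0] at this
    rw [← map_inv, ← map_mul, ← map_mul, hinv g hgx hgo, map_inv]
  obtain ⟨w', hw'Γ, hw'0, hw'1, hw'2⟩ := Cfsg.Agent.Lib.Helper9.Zass.perm_main h2 Γ hU hD hB (ρ w) ⟨w, rfl⟩ hw0 hw1 hww' hinv'
  have hle := Cfsg.Agent.Lib.Helper12.L2.mobHom_range_le Γ hU ⟨w', hw'Γ, hw'0, hw'1, hw'2⟩
  have hcardΓ : Nat.card Γ = Nat.card G :=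
    (Nat.card_congr (MonoidHom.ofInjective hρinj).toEquiv).symm
  obtain ⟨I⟩ := Cfsg.Agent.Lib.Helper12.L2.nonempty_equiv_of_range Γ hle (by rw [hcardΓ]; exact hcard)
  exact ⟨(MonoidHom.ofInjective hρinj).trans I⟩

/-- **Zassenhaus**: a Zassenhaus group with an abelian regular normal subgroup `F` of a point
stabiliser and two-point stabilisers of order `(n-1)/2` is `PSL(2,q)`, `q = n`. -/
theorem zass_psl2 {G Ω : Type*} [Group G] [Finite G] [MulAction G Ω] [Finite Ω]
    (hZ : Cfsg.IsZassenhausGroup G Ω) {x o : Ω} (hxo : x ≠ o)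
    (F : Subgroup G) (hFle : F ≤ stabilizer G x)
    (hFn : (F.subgroupOf (stabilizer G x)).Normal)
    (hFab : ∀ u ∈ F, ∀ v ∈ F, u * v = v * u)
    (hreg : ∀ y z : Ω, y ≠ x → z ≠ x → ∃! u : F, (u : G) • y = z)
    (hcard : 2 * Nat.card ↥(stabilizer G x ⊓ stabilizer G o) + 2 = Nat.card Ω) :
    ∃ (K : Type) (_ : Field K) (_ : Fintype K), Fintype.card K + 1 = Nat.card Ω ∧ (2 : K) ≠ 0 ∧
      Nonempty (G ≃* Matrix.ProjectiveSpecialLinearGroup (Fin 2) K) := by
  classical
  have := Fintype.ofFinite Ω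
  obtain ⟨hfaith, h2t, h3, -, -⟩ := id hZ
  set H : Subgroup G := stabilizer G x ⊓ stabilizer G o with hH
  have hHmem : ∀ h : G, h ∈ H ↔ h • x = x ∧ h • o = o := by
    intro h
    rw [hH, Subgroup.mem_inf, mem_stabilizer_iff, mem_stabilizer_iff]
  have hFx : ∀ u ∈ F, u • x = x := fun u hu => hFle hu
  obtain ⟨w, hwx, hwo, hww, hwinv⟩ : ∃ w : G, w • x = o ∧ w • o = x ∧ w * w = 1 ∧
      ∀ h ∈ stabilizer G x ⊓ stabilizer G o, w * h * w⁻¹ = h⁻¹ := by
    rcases Nat.even_or_odd (Nat.card ↥(stabilizer G x ⊓ stabilizer G o)) with he | ho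
    · exact Cfsg.Agent.Lib.Helper12.Zass.inv_even hZ hxo he hcard
    · exact Cfsg.Agent.Lib.Helper54.Zass.inv_odd hZ hxo F hFle hFab hreg ho hcard
  have hHab : ∀ a ∈ H, ∀ b ∈ H, a * b = b * a := by
    intro a ha b hb
    have h1 := hwinv a ha
    have h4 := hwinv b hb
    have h5 := hwinv (a * b) (H.mul_mem ha hb)
    have h6 : w * (a * b) * w⁻¹ = (w * a * w⁻¹) * (w * b * w⁻¹) := by group
    rw [h6, h1, h4, mul_inv_rev] at h5
    have := congrArg (fun z => z⁻¹) h5
    simpa using this.symm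
  have hnorm : ∀ h ∈ H, ∀ u ∈ F, h * u * h⁻¹ ∈ F := by
    intro h hh u hu
    have hhx : h ∈ stabilizer G x := (Subgroup.mem_inf.mp hh).1
    have := hFn.conj_mem ⟨u, hFle hu⟩ (by simpa [Subgroup.mem_subgroupOf] using hu) ⟨h, hhx⟩
    simpa [Subgroup.mem_subgroupOf] using this
  have hfree : ∀ u ∈ F, ∀ y : Ω, y ≠ x → u • y = y → u = 1 := by
    intro u hu y hy huy
    obtain ⟨u0, -, huniq⟩ := hreg y y hy hy
    have h1 := huniq ⟨u, hu⟩ huy
    have h4 := huniq 1 (one_smul _ _)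
    have := h1.trans h4.symm
    exact congrArg Subtype.val this
  have hne : ∀ u ∈ F, u • o ≠ x := by
    intro u hu h
    apply hxo
    have : u • o = u • x := by rw [h, hFx u hu]
    exact (smul_left_cancel _ this).symm
  have hfpf : ∀ h ∈ H, ∀ u ∈ F, h * u * h⁻¹ = u → h = 1 ∨ u = 1 := by
    intro h hh u hu hc
    by_cases hu1 : u = 1
    · exact Or.inr hu1
    · left
      obtain ⟨hx, ho⟩ := (hHmem h).mp hh
      have huo : u • o ≠ o := fun h' => hu1 (hfree u hu o hxo.symm h')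
      refine h3 h x o (u • o) hxo (Ne.symm huo) (Ne.symm (hne u hu)) hx ho ?_
      have : h * u = u * h := by
        calc h * u = (h * u * h⁻¹) * h := by group
          _ = u * h := by rw [hc]
      rw [← mul_smul, this, mul_smul, ho]
  have hcardF : Nat.card F + 1 = Nat.card Ω := by
    have hbij : Function.Bijective (fun u : F => (⟨(u : G) • o, hne u u.2⟩ : {y : Ω // y ≠ x})) := by
      constructor
      · intro u v huv
        have h1 : (u : G) • o = (v : G) • o := congrArg Subtype.val huv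
        obtain ⟨u0, -, huniq⟩ := hreg o ((v : G) • o) hxo.symm (hne v v.2)
        exact (huniq u h1).trans (huniq v rfl).symm
      · rintro ⟨z, hz⟩
        obtain ⟨u, hu, -⟩ := hreg o z hxo.symm hz
        exact ⟨u, Subtype.ext hu⟩
    rw [Nat.card_congr (Equiv.ofBijective _ hbij), Nat.card_eq_fintype_card,
      Fintype.card_subtype_compl, Nat.card_eq_fintype_card]
    simp
    have : 0 < Fintype.card Ω := Fintype.card_pos_iff.2 ⟨x⟩
    omega
  have hcardHF : 2 * Nat.card H + 1 = Nat.card F := by omega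
  obtain ⟨K, iK, iKf, φ, σ, hsurj, hinj, hadd, hmul, hsq⟩ :=
    Cfsg.Agent.Lib.Helper76.exists_field F H hFab hHab hnorm hfpf hcardHF
  have hcardK : Fintype.card K = Nat.card F := by
    have hbij : Function.Bijective (fun u : F => φ u) := by
      constructor
      · intro u v huv
        exact Subtype.ext (hinj u u.2 v v.2 huv)
      · intro a
        obtain ⟨u, hu, rfl⟩ := hsurj a
        exact ⟨⟨u, hu⟩, rfl⟩
    rw [Nat.card_congr (Equiv.ofBijective _ hbij), Nat.card_eq_fintype_card]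
  have h2K : (2 : K) ≠ 0 := by
    apply Ring.two_ne_zero
    intro h
    have := FiniteField.even_card_of_char_two h
    omega
  refine ⟨K, iK, iKf, by omega, h2K, ?_⟩
  have hG := Cfsg.Agent.Lib.Helper54.Zass.card_group h2t hxo
  have hP := Cfsg.Agent.Lib.Helper7.card_PSL2 (F := K) h2K
  have hcardG : Nat.card G ≤ Nat.card (Matrix.ProjectiveSpecialLinearGroup (Fin 2) K) := by
    rw [← hH] at hG
    rw [Nat.card_eq_fintype_card (α := Ω)] at hcard hcardF
    generalize Nat.card H = e at *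
    have hq : Fintype.card K = 2 * e + 1 := by omega
    have hΩ : Fintype.card Ω = 2 * e + 2 := by omega
    rw [hq] at hP
    rw [hΩ] at hG
    have h1 : (2 * e + 1) ^ 2 - 1 = (2 * e + 2) * (2 * e) := by
      have : (2 * e + 1) ^ 2 = (2 * e + 2) * (2 * e) + 1 := by ring
      omega
    have h4 : 2 * e + 2 - 1 = 2 * e + 1 := by omega
    rw [h1] at hP
    rw [h4] at hG
    have : Nat.card G * 2 = Nat.card (Matrix.ProjectiveSpecialLinearGroup (Fin 2) K) * 2 := by
      rw [hP, hG]; ring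
    omega
  exact coord hxo F hFx (fun y hy => by
      obtain ⟨u, hu, -⟩ := hreg o y hxo.symm hy
      exact ⟨u, u.2, hu⟩) (fun u hu h => hfree u hu o hxo.symm h) w hwx hwo hww
    (fun h hx ho => hwinv h ((hHmem h).mpr ⟨hx, ho⟩))
    (fun h hx ho => hnorm h ((hHmem h).mpr ⟨hx, ho⟩)) K h2K φ σ hsurj hinj hadd
    (fun h hx ho => hmul h ((hHmem h).mpr ⟨hx, ho⟩))
    (fun c => by
      rw [hsq c]
      constructor
      · rintro ⟨h, hh, rfl⟩
        exact ⟨h, (hHmem h).mp hh, rfl⟩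
      · rintro ⟨h, hh, rfl⟩
        exact ⟨h, (hHmem h).mpr hh, rfl⟩) hcardG

end Cfsg.Agent.Lib.Helper73.ZassMain
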