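import Mathlib
import Cfsg.Agent.Lib.Helper73.ClassSize

set_option autoImplicit false

namespace Cfsg.Agent.Lib.Helper73

open Classical in
/-- Counting the classes contained in a conjugation invariant set by summing centralizer orders. -/
theorem sum_card_centralizer_eq {X : Type*} [Group X] [Fintype X] (p : X → Prop)
    (hp : ∀ g x : X, p x → p (g * x * g⁻¹)) :
    ∑ g : X, (if p g then Nat.card (Subgroup.centralizer ({g} : Set X)) else 0) =
      Nat.card X * Nat.card {C : ConjClasses X // ∀ g : X, ConjClasses.mk g = C → p g} := by
  classical
  rw [← Finset.sum_fiberwise Finset.univ (fun g : X => ConjClasses.mk g)]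
  have hinner : ∀ C : ConjClasses X,
      ∑ g ∈ Finset.univ.filter (fun g : X => ConjClasses.mk g = C),
        (if p g then Nat.card (Subgroup.centralizer ({g} : Set X)) else 0) =
      if (∀ g : X, ConjClasses.mk g = C → p g) then Nat.card X else 0 := by
    intro C
    obtain ⟨g0, rfl⟩ := ConjClasses.exists_rep C
    have hcardC : (Finset.univ.filter (fun g : X => ConjClasses.mk g = ConjClasses.mk g0)).card =
        (Subgroup.centralizer ({g0} : Set X)).index := by
      rw [← card_isConj_eq_index_centralizer, Nat.card_eq_fintype_card, Fintype.card_subtype]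
      congr 1
      ext g
      simp only [Finset.mem_filter, Finset.mem_univ, true_and]
      rw [ConjClasses.mk_eq_mk_iff_isConj]
      exact isConj_comm
    have hidx : ∀ g : X, ConjClasses.mk g = ConjClasses.mk g0 →
        (Subgroup.centralizer ({g} : Set X)).index = (Subgroup.centralizer ({g0} : Set X)).index := by
      intro g hg
      rw [← card_carrier_eq_index_centralizer, ← card_carrier_eq_index_centralizer, hg]
    have hcent : ∀ g : X, ConjClasses.mk g = ConjClasses.mk g0 →
        Nat.card (Subgroup.centralizer ({g} : Set X)) = Nat.card (Subgroup.centralizer ({g0} : Set X)) := by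
      intro g hg
      have h1 := (Subgroup.centralizer ({g} : Set X)).card_mul_index
      have h2 := (Subgroup.centralizer ({g0} : Set X)).card_mul_index
      rw [hidx g hg] at h1
      have h3 : 0 < (Subgroup.centralizer ({g0} : Set X)).index :=
        Nat.pos_of_ne_zero Subgroup.index_ne_zero_of_finite
      exact Nat.eq_of_mul_eq_mul_right h3 (h1.trans h2.symm)
    by_cases hall : ∀ g : X, ConjClasses.mk g = ConjClasses.mk g0 → p g
    · rw [if_pos hall]
      have : ∀ g ∈ Finset.univ.filter (fun g : X => ConjClasses.mk g = ConjClasses.mk g0),
          (if p g then Nat.card (Subgroup.centralizer ({g} : Set X)) else 0) =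
            Nat.card (Subgroup.centralizer ({g0} : Set X)) := by
        intro g hg
        have hg' := (Finset.mem_filter.mp hg).2
        rw [if_pos (hall g hg'), hcent g hg']
      rw [Finset.sum_congr rfl this, Finset.sum_const, hcardC, smul_eq_mul, mul_comm]
      exact Subgroup.card_mul_index _
    · rw [if_neg hall]
      apply Finset.sum_eq_zero
      intro g hg
      have hg' := (Finset.mem_filter.mp hg).2
      rw [if_neg]
      intro hpg
      apply hall
      intro g' hg''
      have hconj : IsConj g g' := by
        rw [← ConjClasses.mk_eq_mk_iff_isConj, hg', hg'']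
      obtain ⟨c, hc⟩ := isConj_iff.mp hconj
      rw [← hc]
      exact hp c g hpg
  rw [Finset.sum_congr rfl (fun C _ => hinner C), ← Finset.sum_filter, Finset.sum_const, smul_eq_mul,
    mul_comm, Nat.card_eq_fintype_card (α := {C : ConjClasses X // _}), Fintype.card_subtype]

end Cfsg.Agent.Lib.Helper73
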