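import Mathlib
import Cfsg.Prelude.Def_OddOrderLocal
import Cfsg.Agent.Lib.Helper73.ExcChar

set_option autoImplicit false
set_option linter.unusedSectionVars false

namespace Cfsg.Agent.Lib.Helper73

open Cfsg

section general
variable {G : Type*} [Group G]

theorem isPGroup_zpowers_of_pow {p k : ℕ} {x : G} (hk : x ^ (p ^ k) = 1) :
    IsPGroup p (Subgroup.zpowers x) := by
  rintro ⟨y, hy⟩
  obtain ⟨m, rfl⟩ := Subgroup.mem_zpowers_iff.mp hy
  refine ⟨k, ?_⟩
  ext
  simp only [Subgroup.coe_pow, Subgroup.coe_one]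
  rw [← zpow_natCast, ← zpow_mul, mul_comm, zpow_mul, zpow_natCast, hk, one_zpow]

theorem mem_sylow_of_pow {p : ℕ} (S : Sylow p G) {x : G}
    (hx : x ∈ Subgroup.normalizer ((S : Subgroup G) : Set G)) {k : ℕ} (hk : x ^ (p ^ k) = 1) :
    x ∈ (S : Subgroup G) := by
  have h := (isPGroup_zpowers_of_pow hk).inf_normalizer_sylow S
  have h2 : x ∈ Subgroup.zpowers x ⊓ Subgroup.normalizer (S : Set G) :=
    ⟨Subgroup.mem_zpowers x, hx⟩
  rw [h] at h2
  exact h2.2

theorem exists_conj_mem_sylow [Finite G] {p : ℕ} [Fact p.Prime] (S : Sylow p G) {x : G} {k : ℕ}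
    (hk : x ^ (p ^ k) = 1) : ∃ a : G, a⁻¹ * x * a ∈ (S : Subgroup G) := by
  obtain ⟨Q, hQ⟩ := (isPGroup_zpowers_of_pow hk).exists_le_sylow
  obtain ⟨a, ha⟩ := MulAction.exists_smul_eq G S Q
  refine ⟨a, ?_⟩
  have hx : x ∈ (Q : Subgroup G) := hQ (Subgroup.mem_zpowers x)
  rw [← ha, Sylow.coe_subgroup_smul, Subgroup.mem_pointwise_smul_iff_inv_smul_mem] at hx
  simpa [MulAut.smul_def] using hx

theorem mul_mem_iff_of_card_two [Finite G] {H K : Subgroup G} (hHK : H ≤ K)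
    (hcard : Nat.card K = 2 * Nat.card H) {a b : G} (ha : a ∈ K) (hb : b ∈ K) :
    (a * b ∈ H ↔ (a ∈ H ↔ b ∈ H)) := by
  have hidx : (H.subgroupOf K).index = 2 := by
    have h1 := Subgroup.card_mul_index (H.subgroupOf K)
    have h2 : Nat.card (H.subgroupOf K) = Nat.card H :=
      Nat.card_congr (Subgroup.subgroupOfEquivOfLe hHK).toEquiv
    rw [h2, hcard] at h1
    have hpos : 0 < Nat.card H := Nat.card_pos
    nlinarith
  have := Subgroup.mul_mem_iff_of_index_two hidx (a := ⟨a, ha⟩) (b := ⟨b, hb⟩)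
  simpa [Subgroup.mem_subgroupOf] using this

/-- An element killed by two coprime exponents is trivial. -/
theorem eq_one_of_pow_coprime {x : G} {a b : ℕ} (hab : Nat.Coprime a b) (ha : x ^ a = 1)
    (hb : x ^ b = 1) : x = 1 := by
  have h1 : orderOf x ∣ a := orderOf_dvd_of_pow_eq_one ha
  have h2 : orderOf x ∣ b := orderOf_dvd_of_pow_eq_one hb
  have h3 : orderOf x ∣ 1 := by
    have := Nat.dvd_gcd h1 h2
    rwa [hab] at this
  exact orderOf_eq_one_iff.mp (Nat.dvd_one.mp h3)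

end general

/-- Centralizer of a Sylow 3-subgroup. -/
abbrev cP {G : Type*} [Group G] (P : Sylow 3 G) : Subgroup G := Subgroup.centralizer (P : Set G)
/-- Normalizer of a Sylow 3-subgroup. -/
abbrev nP {G : Type*} [Group G] (P : Sylow 3 G) : Subgroup G :=
  Subgroup.normalizer ((P : Subgroup G) : Set G)

/-- The hypotheses of the small-normalizer theorem together with simplicity. -/
structure FG5 {G : Type*} [Group G] (P : Sylow 3 G) : Prop where
  hab : ∀ a ∈ (P : Subgroup G), ∀ b ∈ (P : Subgroup G), a * b = b * a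
  hN : Nat.card (nP P) = 4 * Nat.card P
  hC : Nat.card (cP P) = 2 * Nat.card P
  hTI : Cfsg.IsTISubset (cP P : Set G)
  heven : ∀ H : Subgroup G, H ≠ ⊤ → 2 ∣ Nat.card H → Nat.card H ∣ 4 * Nat.card P
  simple : IsSimpleGroup G

section chain
variable {G : Type*} [Group G] [Finite G] {P : Sylow 3 G}

theorem FG5.card_eq (_F : FG5 P) : ∃ k : ℕ, Nat.card P = 3 ^ k := IsPGroup.iff_card.mp P.2

theorem FG5.cop2 (F : FG5 P) : Nat.Coprime 2 (Nat.card P) := by
  obtain ⟨k, hk⟩ := F.card_eq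
  rw [hk]
  exact Nat.Coprime.pow_right k (by norm_num)

theorem FG5.cop4 (F : FG5 P) : Nat.Coprime 4 (Nat.card P) := by
  obtain ⟨k, hk⟩ := F.card_eq
  rw [hk]
  exact Nat.Coprime.pow_right k (by norm_num)

theorem FG5.qpos (_F : FG5 P) : 0 < Nat.card P := Nat.card_pos

theorem FG5.pow_card (_F : FG5 P) {x : G} (hx : x ∈ (P : Subgroup G)) : x ^ Nat.card P = 1 := by
  have := Subgroup.orderOf_dvd_natCard (P : Subgroup G) hx
  exact orderOf_dvd_iff_pow_eq_one.mp this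

theorem FG5.P_le_C (F : FG5 P) : (P : Subgroup G) ≤ cP P := by
  intro x hx
  rw [Subgroup.mem_centralizer_iff]
  intro h hh
  exact F.hab h hh x hx

theorem FG5.C_le_N (_F : FG5 P) : cP P ≤ nP P := Subgroup.centralizer_le_normalizer _

theorem FG5.mem_P_of_pow (F : FG5 P) {x : G} (hx : x ∈ nP P) (hq : x ^ Nat.card P = 1) :
    x ∈ (P : Subgroup G) := by
  obtain ⟨k, hk⟩ := F.card_eq
  rw [hk] at hq
  exact mem_sylow_of_pow P hx hq

theorem FG5.comm_CP (_F : FG5 P) {c p : G} (hc : c ∈ cP P) (hp : p ∈ (P : Subgroup G)) :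
    p * c = c * p := (Subgroup.mem_centralizer_iff.mp hc) p hp

theorem FG5.mulP (F : FG5 P) {a b : G} (ha : a ∈ cP P) (hb : b ∈ cP P) :
    (a * b ∈ (P : Subgroup G) ↔ (a ∈ (P : Subgroup G) ↔ b ∈ (P : Subgroup G))) :=
  mul_mem_iff_of_card_two F.P_le_C F.hC ha hb

theorem FG5.mulC (F : FG5 P) {a b : G} (ha : a ∈ nP P) (hb : b ∈ nP P) :
    (a * b ∈ cP P ↔ (a ∈ cP P ↔ b ∈ cP P)) :=
  mul_mem_iff_of_card_two F.C_le_N (by rw [F.hN, F.hC]; ring) ha hb

theorem FG5.comm (F : FG5 P) : ∀ a ∈ cP P, ∀ b ∈ cP P, a * b = b * a := by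
  intro a ha b hb
  by_cases haP : a ∈ (P : Subgroup G)
  · exact F.comm_CP hb haP
  by_cases hbP : b ∈ (P : Subgroup G)
  · exact (F.comm_CP ha hbP).symm
  have h1 : a⁻¹ * b ∈ (P : Subgroup G) := by
    rw [F.mulP ((cP P).inv_mem ha) hb, inv_mem_iff]
    exact iff_of_false haP hbP
  have h2 := F.comm_CP ha h1
  -- (a⁻¹ b) a = a (a⁻¹ b) = b
  have h3 : a⁻¹ * b * a = b := by rw [h2]; group
  calc a * b = a * (a⁻¹ * b * a) := by rw [h3]
    _ = b * a := by group

theorem FG5.exists_z (F : FG5 P) : ∃ z ∈ cP P, orderOf z = 2 := by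
  have : Fact (Nat.Prime 2) := ⟨Nat.prime_two⟩
  obtain ⟨x, hx⟩ := exists_prime_orderOf_dvd_card' (G := cP P) 2 (by rw [F.hC]; exact dvd_mul_right _ _)
  exact ⟨x, x.2, by rw [Subgroup.orderOf_coe]; exact hx⟩

theorem FG5.invol_not_mem_P (F : FG5 P) {s : G} (hs : orderOf s = 2) : s ∉ (P : Subgroup G) := by
  intro h
  have h1 := F.pow_card h
  have h2 : s ^ 2 = 1 := by rw [← hs]; exact pow_orderOf_eq_one s
  exact ne_one_of_orderOf_two hs (eq_one_of_pow_coprime F.cop2 h2 h1)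

theorem FG5.uniq (F : FG5 P) {z c : G} (hz : z ∈ cP P) (oz : orderOf z = 2) (hc : c ∈ cP P)
    (oc : orderOf c = 2) : c = z := by
  have h1 : c * z ∈ (P : Subgroup G) := by
    rw [F.mulP hc hz]
    exact iff_of_false (F.invol_not_mem_P oc) (F.invol_not_mem_P oz)
  have h2 : (c * z) ^ 2 = 1 := by
    rw [sq]
    calc c * z * (c * z) = c * (z * c) * z := by group
      _ = c * (c * z) * z := by rw [F.comm z hz c hc]
      _ = (c * c) * (z * z) := by group
      _ = 1 := by rw [mul_self_of_orderOf_two oc, mul_self_of_orderOf_two oz, one_mul]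
  have h3 : c * z = 1 := eq_one_of_pow_coprime F.cop2 h2 (F.pow_card h1)
  rw [eq_comm, ← inv_eq_self_of_orderOf_two oz]
  exact (eq_inv_of_mul_eq_one_left h3).symm

theorem FG5.conj_mem_P (_F : FG5 P) {x p : G} (hx : x ∈ nP P) (hp : p ∈ (P : Subgroup G)) :
    x * p * x⁻¹ ∈ (P : Subgroup G) := (Subgroup.mem_normalizer_iff.mp hx p).mp hp

theorem FG5.conj_mem_P' (F : FG5 P) {x p : G} (hx : x ∈ nP P) (hp : p ∈ (P : Subgroup G)) :
    x⁻¹ * p * x ∈ (P : Subgroup G) := by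
  have := F.conj_mem_P ((nP P).inv_mem hx) hp
  simpa using this

theorem FG5.conj_mem_C (F : FG5 P) {x c : G} (hx : x ∈ nP P) (hc : c ∈ cP P) :
    x * c * x⁻¹ ∈ cP P := by
  rw [Subgroup.mem_centralizer_iff]
  intro p hp
  have h1 := F.comm_CP hc (F.conj_mem_P' hx hp)
  calc p * (x * c * x⁻¹) = x * ((x⁻¹ * p * x) * c) * x⁻¹ := by group
    _ = x * (c * (x⁻¹ * p * x)) * x⁻¹ := by rw [h1]
    _ = x * c * x⁻¹ * p := by group

theorem FG5.z_central (F : FG5 P) {z x : G} (hz : z ∈ cP P) (oz : orderOf z = 2) (hx : x ∈ nP P) :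
    x * z * x⁻¹ = z := by
  apply F.uniq hz oz (F.conj_mem_C hx hz)
  have := orderOf_conj' x⁻¹ z
  simpa [oz] using this

theorem FG5.normC_le (F : FG5 P) : Subgroup.normalizer ((cP P : Subgroup G) : Set G) ≤ nP P := by
  have key : ∀ g ∈ Subgroup.normalizer ((cP P : Subgroup G) : Set G), ∀ p ∈ (P : Subgroup G),
      g * p * g⁻¹ ∈ (P : Subgroup G) := by
    intro g hg p hp
    have h1 : g * p * g⁻¹ ∈ cP P := (Subgroup.mem_normalizer_iff.mp hg p).mp (F.P_le_C hp)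
    apply F.mem_P_of_pow (F.C_le_N h1)
    rw [conj_pow, F.pow_card hp]
    group
  intro g hg
  rw [Subgroup.mem_normalizer_iff]
  intro h
  refine ⟨key g hg h, fun hh => ?_⟩
  have := key g⁻¹ (Subgroup.inv_mem _ hg) _ hh
  simpa [mul_assoc] using this

theorem FG5.ti (F : FG5 P) : ∀ c ∈ cP P, c ≠ 1 → ∀ x : G, x⁻¹ * c * x ∈ cP P → x ∈ nP P := by
  intro c hc hc1 x hx
  by_contra hxN
  apply hc1
  refine F.hTI x⁻¹ (fun h => hxN ?_) c hc (by simpa using hx)
  have := F.normC_le h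
  simpa using this

theorem FG5.q_ne_one (F : FG5 P) : Nat.card P ≠ 1 := by
  intro h1
  have hbot : (P : Subgroup G) = ⊥ := Subgroup.card_eq_one.mp h1
  have hCtop : cP P = ⊤ := by
    rw [eq_top_iff]
    intro x _
    rw [Subgroup.mem_centralizer_iff]
    intro h hh
    have : h ∈ (P : Subgroup G) := hh
    rw [hbot, Subgroup.mem_bot] at this
    rw [this]; simp
  have hNtop : nP P = ⊤ := top_le_iff.mp (hCtop ▸ F.C_le_N)
  have h2 := F.hN
  have h3 := F.hC
  rw [hNtop] at h2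
  rw [hCtop] at h3
  omega

theorem FG5.exists_u (F : FG5 P) : ∃ u ∈ (P : Subgroup G), u ≠ 1 := by
  by_contra hcon
  push Not at hcon
  apply F.q_ne_one
  apply Subgroup.card_eq_one.mpr
  rw [eq_bot_iff]
  intro x hx
  exact Subgroup.mem_bot.mpr (hcon x hx)

theorem FG5.center_ne_top (F : FG5 P) : Subgroup.center G ≠ ⊤ := by
  intro htop
  have hCtop : cP P = ⊤ := by
    rw [eq_top_iff]
    intro x _
    rw [Subgroup.mem_centralizer_iff]
    intro h _
    have hx : x ∈ Subgroup.center G := by rw [htop]; trivial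
    exact ((Subgroup.mem_center_iff.mp hx) h)
  have hNtop : nP P = ⊤ := top_le_iff.mp (hCtop ▸ F.C_le_N)
  have h2 := F.hN
  have h3 := F.hC
  have h4 := F.qpos
  rw [hNtop] at h2
  rw [hCtop] at h3
  omega

theorem FG5.center_eq_bot (F : FG5 P) : Subgroup.center G = ⊥ := by
  have := F.simple
  rcases IsSimpleGroup.eq_bot_or_eq_top_of_normal (Subgroup.center G) inferInstance with h | h
  · exact h
  · exact absurd h F.center_ne_top

theorem FG5.cent (F : FG5 P) {z : G} (hz : z ∈ cP P) (oz : orderOf z = 2) :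
    Subgroup.centralizer ({z} : Set G) = nP P := by
  symm
  have hle : nP P ≤ Subgroup.centralizer ({z} : Set G) := by
    intro x hx
    rw [Subgroup.mem_centralizer_iff]
    intro h hh
    rw [Set.mem_singleton_iff.mp hh]
    have := F.z_central hz oz hx
    calc z * x = (x * z * x⁻¹) * x := by rw [this]
      _ = x * z := by group
  apply Subgroup.eq_of_le_of_card_ge hle
  rw [F.hN]
  apply Nat.le_of_dvd (by have := F.qpos; omega)
  apply F.heven
  · intro htop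
    have : z ∈ Subgroup.center G := by
      rw [Subgroup.mem_center_iff]
      intro g
      have hg : g ∈ Subgroup.centralizer ({z} : Set G) := by rw [htop]; trivial
      exact ((Subgroup.mem_centralizer_iff.mp hg) z rfl).symm
    rw [F.center_eq_bot, Subgroup.mem_bot] at this
    exact ne_one_of_orderOf_two oz this
  · rw [← oz]
    apply Subgroup.orderOf_dvd_natCard
    rw [Subgroup.mem_centralizer_iff]
    intro h hh
    rw [Set.mem_singleton_iff.mp hh]

end chain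

section two
variable {G : Type*} [Group G] [Finite G] {P : Sylow 3 G}

theorem orderOf_eq_of_isConj {G : Type*} [Group G] {a b : G} (h : IsConj a b) :
    orderOf a = orderOf b := by
  obtain ⟨c, rfl⟩ := isConj_iff.mp h
  have := orderOf_conj' c⁻¹ a
  simpa using this.symm

theorem FG5.card_sylow2 (F : FG5 P) (S : Sylow 2 G) : Nat.card S = 4 := by
  have : Fact (Nat.Prime 2) := ⟨Nat.prime_two⟩
  have h4 : 4 ∣ Nat.card G := by
    have := Subgroup.card_subgroup_dvd_card (nP P)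
    rw [F.hN] at this
    exact (dvd_mul_right 4 _).trans this
  have h4S : 2 ^ 2 ∣ Nat.card S := S.pow_dvd_card_of_pow_dvd_card (by norm_num; exact h4)
  obtain ⟨k, hk⟩ := IsPGroup.iff_card.mp S.2
  have hne : (S : Subgroup G) ≠ ⊤ := by
    intro htop
    obtain ⟨u, hu, hu1⟩ := F.exists_u
    have huS : u ∈ (S : Subgroup G) := by rw [htop]; trivial
    have h1 : u ^ (2 ^ k) = 1 := by
      rw [← hk]
      exact orderOf_dvd_iff_pow_eq_one.mp (Subgroup.orderOf_dvd_natCard _ huS)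
    exact hu1 (eq_one_of_pow_coprime (Nat.Coprime.pow_left k F.cop2) h1 (F.pow_card hu))
  have hdvd : Nat.card S ∣ 4 * Nat.card P :=
    F.heven S hne ((by norm_num : 2 ∣ 2 ^ 2).trans h4S)
  have h5 : Nat.card S ∣ 4 := by
    apply Nat.Coprime.dvd_of_dvd_mul_right _ hdvd
    rw [hk]; exact Nat.Coprime.pow_left k F.cop2
  exact Nat.dvd_antisymm h5 (by simpa using h4S)

theorem FG5.comm_S (F : FG5 P) (S : Sylow 2 G) :
    ∀ a ∈ (S : Subgroup G), ∀ b ∈ (S : Subgroup G), a * b = b * a := by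
  have : Fact (Nat.Prime 2) := ⟨Nat.prime_two⟩
  have hc : IsMulCommutative S :=
    IsPGroup.isMulCommutative_of_card_eq_prime_sq (p := 2) (by rw [F.card_sylow2 S]; norm_num)
  intro a ha b hb
  have := hc.is_comm.comm (⟨a, ha⟩ : S) ⟨b, hb⟩
  exact congrArg Subtype.val this

theorem FG5.exists_y (F : FG5 P) (S : Sylow 2 G) :
    ∃ y ∈ Subgroup.normalizer ((S : Subgroup G) : Set G),
      y ∉ Subgroup.centralizer ((S : Subgroup G) : Set G) := by
  have : Fact (Nat.Prime 2) := ⟨Nat.prime_two⟩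
  by_contra hcon
  push Not at hcon
  have hP : Subgroup.normalizer (S : Set G) ≤ Subgroup.centralizer (S : Set G) := hcon
  have hc := MonoidHom.ker_transferSylow_isComplement' S hP
  have hcard := hc.card_mul_card
  have hS : Nat.card (S : Subgroup G) = 4 := F.card_sylow2 S
  have hGpos : 0 < Nat.card G := Nat.card_pos
  rcases F.simple.eq_bot_or_eq_top_of_normal _ (MonoidHom.normal_ker (MonoidHom.transferSylow S hP))
    with h | h
  · rw [h, Subgroup.card_bot, hS] at hcard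
    have h1 := Subgroup.card_subgroup_dvd_card (nP P)
    rw [F.hN, ← hcard] at h1
    have h2 := Nat.le_of_dvd (by norm_num) h1
    have h3 := F.q_ne_one
    have h4 := F.qpos
    omega
  · rw [h, Subgroup.card_top, hS] at hcard
    omega

theorem FG5.exists_y_odd (F : FG5 P) (S : Sylow 2 G) :
    ∃ y ∈ Subgroup.normalizer ((S : Subgroup G) : Set G),
      y ∉ Subgroup.centralizer ((S : Subgroup G) : Set G) ∧ ∃ j : ℕ, y ^ (2 * j + 1) = 1 := by
  obtain ⟨y, hyN, hyC⟩ := F.exists_y S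
  obtain ⟨e, m, hm, ho⟩ := Nat.exists_eq_two_pow_mul_odd (n := orderOf y) (orderOf_pos y).ne'
  refine ⟨y ^ (2 ^ e), Subgroup.pow_mem _ hyN _, ?_, ?_⟩
  · intro h1
    apply hyC
    have h2 : y ^ m ∈ (S : Subgroup G) := by
      apply mem_sylow_of_pow S (Subgroup.pow_mem _ hyN _) (k := e)
      rw [← pow_mul, mul_comm, ← ho, pow_orderOf_eq_one]
    have h3 : y ^ m ∈ Subgroup.centralizer ((S : Subgroup G) : Set G) := by
      rw [Subgroup.mem_centralizer_iff]
      intro h hh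
      exact F.comm_S S h hh _ h2
    have hcop : Nat.Coprime (2 ^ e) m := Nat.Coprime.pow_left e (Nat.coprime_two_left.mpr hm)
    have hb := Nat.gcd_eq_gcd_ab (2 ^ e) m
    rw [hcop] at hb
    have h4 : y = (y ^ (2 ^ e)) ^ (Nat.gcdA (2 ^ e) m) * (y ^ m) ^ (Nat.gcdB (2 ^ e) m) := by
      rw [← zpow_natCast y (2 ^ e), ← zpow_natCast y m, ← zpow_mul, ← zpow_mul, ← zpow_add, ← hb]
      simp
    rw [h4]
    exact Subgroup.mul_mem _ (Subgroup.zpow_mem _ h1 _) (Subgroup.zpow_mem _ h3 _)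
  · obtain ⟨j, hj⟩ := hm
    refine ⟨j, ?_⟩
    rw [← hj, ← pow_mul, ← ho, pow_orderOf_eq_one]

theorem FG5.fusion (F : FG5 P) (S : Sylow 2 G) :
    ∃ s ∈ (S : Subgroup G), s ≠ 1 ∧ ∀ t ∈ (S : Subgroup G), t ≠ 1 → IsConj s t := by
  classical
  obtain ⟨y, hyN, hyC, j, hj⟩ := F.exists_y_odd S
  rw [Subgroup.mem_centralizer_iff] at hyC
  push Not at hyC
  obtain ⟨s, hsS, hsy⟩ := hyC
  have hsS' : s ∈ (S : Subgroup G) := hsS
  have hs1 : s ≠ 1 := by
    rintro rfl
    simp at hsy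
  have hb : y * s * y⁻¹ ∈ (S : Subgroup G) := (Subgroup.mem_normalizer_iff.mp hyN s).mp hsS'
  have hc : y * (y * s * y⁻¹) * y⁻¹ ∈ (S : Subgroup G) :=
    (Subgroup.mem_normalizer_iff.mp hyN _).mp hb
  have hab : s ≠ y * s * y⁻¹ := by
    intro h
    apply hsy
    calc s * y = (y * s * y⁻¹) * y := by rw [← h]
      _ = y * s := by group
  have hbc : y * s * y⁻¹ ≠ y * (y * s * y⁻¹) * y⁻¹ := by
    intro h
    apply hab
    have := congrArg (fun x => y⁻¹ * x * y) h
    simpa [mul_assoc] using this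
  have hac : s ≠ y * (y * s * y⁻¹) * y⁻¹ := by
    intro h
    have h2 : Commute (y ^ 2) s := by
      show y ^ 2 * s = s * y ^ 2
      calc y ^ 2 * s = (y * (y * s * y⁻¹) * y⁻¹) * y ^ 2 := by
            rw [sq]; simp [mul_assoc]
        _ = s * y ^ 2 := by rw [← h]
    have h3 : Commute ((y ^ 2) ^ j) s := h2.pow_left j
    have h4 : y = ((y ^ 2) ^ j)⁻¹ := by
      apply eq_inv_of_mul_eq_one_left
      rw [← pow_mul, ← pow_succ']
      exact hj
    have h5 : Commute y s := by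
      rw [h4]; exact h3.inv_left
    exact hsy h5.eq.symm
  have hb1 : y * s * y⁻¹ ≠ 1 := by
    intro h
    apply hs1
    have := congrArg (fun x => y⁻¹ * x * y) h
    simpa [mul_assoc] using this
  have hc1 : y * (y * s * y⁻¹) * y⁻¹ ≠ 1 := by
    intro h
    apply hb1
    have := congrArg (fun x => y⁻¹ * x * y) h
    simpa [mul_assoc] using this
  set T : Finset G := {1, s, y * s * y⁻¹, y * (y * s * y⁻¹) * y⁻¹} with hT
  have hTcard : T.card = 4 := by
    rw [hT]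
    rw [Finset.card_insert_of_notMem, Finset.card_insert_of_notMem, Finset.card_insert_of_notMem,
      Finset.card_singleton]
    · simpa using hbc
    · simp only [Finset.mem_insert, Finset.mem_singleton, not_or]
      exact ⟨hab, hac⟩
    · simp only [Finset.mem_insert, Finset.mem_singleton, not_or]
      exact ⟨hs1.symm, hb1.symm, hc1.symm⟩
  have hsub : (T : Set G) ⊆ ((S : Subgroup G) : Set G) := by
    intro x hx
    rw [hT] at hx
    simp only [Finset.coe_insert, Finset.coe_singleton, Set.mem_insert_iff,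
      Set.mem_singleton_iff] at hx
    rcases hx with rfl | rfl | rfl | rfl
    · exact Subgroup.one_mem _
    · exact hsS'
    · exact hb
    · exact hc
  have heq : (T : Set G) = ((S : Subgroup G) : Set G) := by
    apply Set.eq_of_subset_of_ncard_le hsub _ (Set.toFinite _)
    rw [Set.ncard_coe_finset, hTcard, ← Nat.card_coe_set_eq]
    exact (F.card_sylow2 S).le
  refine ⟨s, hsS', hs1, ?_⟩
  intro t ht ht1
  have htT : t ∈ (T : Set G) := by rw [heq]; exact ht
  rw [hT] at htT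
  simp only [Finset.coe_insert, Finset.coe_singleton, Set.mem_insert_iff,
    Set.mem_singleton_iff] at htT
  rcases htT with rfl | rfl | rfl | rfl
  · exact absurd rfl ht1
  · exact IsConj.refl _
  · exact isConj_iff.mpr ⟨y, rfl⟩
  · exact isConj_iff.mpr ⟨y * y, by group⟩

theorem FG5.S_invol (F : FG5 P) (S : Sylow 2 G) :
    ∀ t ∈ (S : Subgroup G), t ≠ 1 → orderOf t = 2 := by
  have : Fact (Nat.Prime 2) := ⟨Nat.prime_two⟩
  obtain ⟨s, _, _, hs⟩ := F.fusion S
  obtain ⟨x, hx⟩ := exists_prime_orderOf_dvd_card' (G := S) 2 (by rw [F.card_sylow2 S]; norm_num)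
  have hx2 : orderOf (x : G) = 2 := by rw [Subgroup.orderOf_coe]; exact hx
  have h1 := orderOf_eq_of_isConj (hs x x.2 (ne_one_of_orderOf_two hx2))
  intro t ht ht1
  rw [← orderOf_eq_of_isConj (hs t ht ht1), h1, hx2]

theorem FG5.two_elt (F : FG5 P) {z : G} (oz : orderOf z = 2) {g : G} {k : ℕ}
    (hg : g ^ (2 ^ k) = 1) (hg1 : g ≠ 1) : orderOf g = 2 ∧ IsConj z g := by
  have : Fact (Nat.Prime 2) := ⟨Nat.prime_two⟩
  obtain ⟨S, _⟩ := (isPGroup_zpowers_of_pow hg).exists_le_sylow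
  obtain ⟨s, _, _, hs⟩ := F.fusion S
  obtain ⟨a, ha⟩ := exists_conj_mem_sylow S hg
  obtain ⟨b, hb⟩ := exists_conj_mem_sylow S (x := z) (k := 1) (by rw [pow_one, ← oz, pow_orderOf_eq_one])
  have ha1 : a⁻¹ * g * a ≠ 1 := by
    intro h
    apply hg1
    have := congrArg (fun x => a * x * a⁻¹) h
    simpa [mul_assoc] using this
  have hb1 : b⁻¹ * z * b ≠ 1 := by
    intro h
    apply ne_one_of_orderOf_two oz
    have := congrArg (fun x => b * x * b⁻¹) h
    simpa [mul_assoc] using this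
  have hga : IsConj g (a⁻¹ * g * a) := isConj_iff.mpr ⟨a⁻¹, by group⟩
  have hzb : IsConj z (b⁻¹ * z * b) := isConj_iff.mpr ⟨b⁻¹, by group⟩
  refine ⟨?_, ?_⟩
  · rw [orderOf_eq_of_isConj hga]
    exact F.S_invol S _ ha ha1
  · exact (hzb.trans (hs _ hb hb1).symm).trans ((hs _ ha ha1).trans hga.symm)

theorem FG5.exists_S (F : FG5 P) {z : G} (hz : z ∈ cP P) (oz : orderOf z = 2) :
    ∃ S : Sylow 2 G, ∃ z₁ ∈ (S : Subgroup G), z₁ ∈ nP P ∧ z₁ ∉ cP P ∧ orderOf z₁ = 2 := by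
  have hz2 : z ^ (2 ^ 1) = 1 := by rw [pow_one, ← oz, pow_orderOf_eq_one]
  obtain ⟨S, hS⟩ := (isPGroup_zpowers_of_pow hz2).exists_le_sylow
  have hzS : z ∈ (S : Subgroup G) := hS (Subgroup.mem_zpowers z)
  have hlt : ({1, z} : Set G).ncard < ((S : Subgroup G) : Set G).ncard := by
    rw [Set.ncard_pair (ne_one_of_orderOf_two oz).symm, ← Nat.card_coe_set_eq]
    have := F.card_sylow2 S
    show 2 < Nat.card (S : Subgroup G)
    omega
  obtain ⟨z₁, hz₁S, hz₁⟩ := Set.exists_mem_notMem_of_ncard_lt_ncard hlt (Set.toFinite _)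
  simp only [Set.mem_insert_iff, Set.mem_singleton_iff, not_or] at hz₁
  have ho : orderOf z₁ = 2 := F.S_invol S z₁ hz₁S hz₁.1
  refine ⟨S, z₁, hz₁S, ?_, ?_, ho⟩
  · rw [← F.cent hz oz, Subgroup.mem_centralizer_iff]
    intro h hh
    rw [Set.mem_singleton_iff.mp hh]
    exact F.comm_S S z hzS z₁ hz₁S
  · intro hC
    exact hz₁.2 (F.uniq hz oz hC ho)

end two

section three
variable {G : Type*} [Group G] [Finite G] {P : Sylow 3 G}

theorem FG5.fixed_trivial (F : FG5 P) {z z₁ : G} (hz : z ∈ cP P) (oz : orderOf z = 2)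
    (hz₁C : z₁ ∉ cP P) (oz₁ : orderOf z₁ = 2) {x : G} (hx : x ∈ (P : Subgroup G))
    (hcomm : z₁ * x = x * z₁) : x = 1 := by
  by_contra hx1
  obtain ⟨_, hconj⟩ := F.two_elt oz (g := z₁) (k := 1)
    (by rw [pow_one, ← oz₁, pow_orderOf_eq_one]) (ne_one_of_orderOf_two oz₁)
  obtain ⟨g, hg⟩ := isConj_iff.mp hconj
  have h1 : g⁻¹ * x * g ∈ nP P := by
    rw [← F.cent hz oz, Subgroup.mem_centralizer_iff]
    intro h hh
    rw [Set.mem_singleton_iff.mp hh]
    calc z * (g⁻¹ * x * g) = g⁻¹ * ((g * z * g⁻¹) * x) * g := by group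
      _ = g⁻¹ * (x * (g * z * g⁻¹)) * g := by rw [hg, hcomm]
      _ = g⁻¹ * x * g * z := by group
  have h2 : g⁻¹ * x * g ∈ (P : Subgroup G) := by
    apply F.mem_P_of_pow h1
    have := conj_pow (i := Nat.card P) (a := g⁻¹) (b := x)
    rw [inv_inv] at this
    rw [this, F.pow_card hx]; group
  have h3 : g ∈ nP P := F.ti x (F.P_le_C hx) hx1 g (F.P_le_C h2)
  have h4 := F.z_central hz oz h3
  rw [hg] at h4
  exact hz₁C (h4 ▸ hz)

theorem FG5.inv_P (F : FG5 P) {z z₁ : G} (hz : z ∈ cP P) (oz : orderOf z = 2)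
    (hz₁N : z₁ ∈ nP P) (hz₁C : z₁ ∉ cP P) (oz₁ : orderOf z₁ = 2) {u : G}
    (hu : u ∈ (P : Subgroup G)) : z₁ * u * z₁⁻¹ = u⁻¹ := by
  have hv : z₁ * u * z₁⁻¹ ∈ (P : Subgroup G) := F.conj_mem_P hz₁N hu
  have hw : u * (z₁ * u * z₁⁻¹) ∈ (P : Subgroup G) := mul_mem hu hv
  have hzz := mul_self_of_orderOf_two oz₁
  have hinv := inv_eq_self_of_orderOf_two oz₁
  have hfix : z₁ * (u * (z₁ * u * z₁⁻¹)) = (u * (z₁ * u * z₁⁻¹)) * z₁ := by
    calc z₁ * (u * (z₁ * u * z₁⁻¹)) = (z₁ * u * z₁⁻¹) * ((z₁ * z₁) * u * z₁⁻¹) := by group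
      _ = (z₁ * u * z₁⁻¹) * (u * z₁⁻¹) := by rw [hzz, one_mul]
      _ = (z₁ * u * z₁⁻¹) * u * z₁ := by rw [hinv]; simp [mul_assoc]
      _ = u * (z₁ * u * z₁⁻¹) * z₁ := by rw [F.hab u hu _ hv]
  have := F.fixed_trivial hz oz hz₁C oz₁ hw hfix
  exact eq_inv_of_mul_eq_one_right this

theorem FG5.inv_C1 (F : FG5 P) {z z₁ : G} (hz : z ∈ cP P) (oz : orderOf z = 2)
    (hz₁N : z₁ ∈ nP P) (hz₁C : z₁ ∉ cP P) (oz₁ : orderOf z₁ = 2) {c : G}
    (hc : c ∈ cP P) : z₁ * c * z₁⁻¹ = c⁻¹ := by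
  by_cases hcP : c ∈ (P : Subgroup G)
  · exact F.inv_P hz oz hz₁N hz₁C oz₁ hcP
  · have h1 : c * z ∈ (P : Subgroup G) := by
      rw [F.mulP hc hz]; exact iff_of_false hcP (F.invol_not_mem_P oz)
    have h2 := F.inv_P hz oz hz₁N hz₁C oz₁ h1
    have h3 := F.z_central hz oz hz₁N
    calc z₁ * c * z₁⁻¹ = (z₁ * (c * z) * z₁⁻¹) * (z₁ * z * z₁⁻¹)⁻¹ := by group
      _ = (c * z)⁻¹ * z⁻¹ := by rw [h2, h3]
      _ = (z * c)⁻¹ * z⁻¹ := by rw [F.comm c hc z hz]
      _ = c⁻¹ * (z * z)⁻¹ := by group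
      _ = c⁻¹ := by rw [mul_self_of_orderOf_two oz]; simp

theorem FG5.inv_all (F : FG5 P) {z z₁ : G} (hz : z ∈ cP P) (oz : orderOf z = 2)
    (hz₁N : z₁ ∈ nP P) (hz₁C : z₁ ∉ cP P) (oz₁ : orderOf z₁ = 2) {x : G}
    (hx : x ∈ nP P) (hxC : x ∉ cP P) :
    (∀ c ∈ cP P, x⁻¹ * c * x = c⁻¹) ∧ orderOf x = 2 := by
  have h1 : x * z₁ ∈ cP P := by rw [F.mulC hx hz₁N]; exact iff_of_false hxC hz₁C
  have hzz := mul_self_of_orderOf_two oz₁
  have hinv := inv_eq_self_of_orderOf_two oz₁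
  obtain ⟨d, hd, hxd⟩ : ∃ d ∈ cP P, x = d * z₁ := by
    refine ⟨x * z₁, h1, ?_⟩
    rw [mul_assoc, hzz, mul_one]
  subst hxd
  constructor
  · intro c hc
    calc (d * z₁)⁻¹ * c * (d * z₁) = z₁⁻¹ * (d⁻¹ * (c * d)) * z₁ := by group
      _ = z₁⁻¹ * (d⁻¹ * (d * c)) * z₁ := by rw [F.comm c hc d hd]
      _ = z₁⁻¹ * c * z₁ := by group
      _ = z₁ * c * z₁⁻¹ := by rw [hinv]
      _ = c⁻¹ := F.inv_C1 hz oz hz₁N hz₁C oz₁ hc
  · apply orderOf_two_of_mul_self
    · calc d * z₁ * (d * z₁) = d * (z₁ * d * z₁) := by group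
        _ = d * (z₁ * d * z₁⁻¹) := by rw [hinv]
        _ = 1 := by rw [F.inv_C1 hz oz hz₁N hz₁C oz₁ hd]; group
    · intro h
      exact hxC (h ▸ (cP P).one_mem)

theorem FG5.prod (F : FG5 P) {z z₁ : G} (hz : z ∈ cP P) (oz : orderOf z = 2)
    (hz₁N : z₁ ∈ nP P) (hz₁C : z₁ ∉ cP P) (oz₁ : orderOf z₁ = 2) :
    ∀ s t : G, orderOf s = 2 → orderOf t = 2 → s * t ≠ 1 →
      ∃ x : G, x⁻¹ * (s * t) * x ∈ cP P := by
  have : Fact (Nat.Prime 3) := ⟨Nat.prime_three⟩
  intro s t hs ht hst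
  obtain ⟨g, hg⟩ : ∃ g, g = s * t := ⟨_, rfl⟩
  rw [← hg] at hst ⊢
  have hss := mul_self_of_orderOf_two hs
  have hsi := inv_eq_self_of_orderOf_two hs
  have hti := inv_eq_self_of_orderOf_two ht
  have hsg : s * g * s⁻¹ = g⁻¹ := by
    rw [hg, mul_inv_rev, hsi, hti, ← mul_assoc, hss, one_mul]
  have key : ∀ h ∈ Subgroup.zpowers g, s * h * s⁻¹ ∈ Subgroup.zpowers g := by
    intro h hh
    obtain ⟨m, rfl⟩ := Subgroup.mem_zpowers_iff.mp hh
    rw [← conj_zpow, hsg]
    exact Subgroup.zpow_mem _ (Subgroup.inv_mem _ (Subgroup.mem_zpowers g)) m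
  have hsH : s ∈ Subgroup.normalizer ((Subgroup.zpowers g : Subgroup G) : Set G) := by
    rw [Subgroup.mem_normalizer_iff]
    intro h
    refine ⟨key h, fun hh => ?_⟩
    have h2 := key _ hh
    have h3 : s * (s * h * s⁻¹) * s⁻¹ = h := by
      calc s * (s * h * s⁻¹) * s⁻¹ = (s * s) * h * (s * s)⁻¹ := by group
        _ = h := by rw [hss]; simp
    rwa [h3] at h2
  have hgH : g ∈ Subgroup.normalizer ((Subgroup.zpowers g : Subgroup G) : Set G) :=
    Subgroup.le_normalizer (Subgroup.mem_zpowers g)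
  have hHne : Subgroup.normalizer ((Subgroup.zpowers g : Subgroup G) : Set G) ≠ ⊤ := by
    intro htop
    have hn : (Subgroup.zpowers g).Normal := Subgroup.normalizer_eq_top_iff.mp htop
    rcases F.simple.eq_bot_or_eq_top_of_normal _ hn with h | h
    · exact hst (Subgroup.zpowers_eq_bot.mp h)
    · apply F.center_ne_top
      rw [eq_top_iff]
      intro x _
      rw [Subgroup.mem_center_iff]
      intro y
      have hx : x ∈ Subgroup.zpowers g := by rw [h]; trivial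
      have hy : y ∈ Subgroup.zpowers g := by rw [h]; trivial
      obtain ⟨a, rfl⟩ := Subgroup.mem_zpowers_iff.mp hx
      obtain ⟨b, rfl⟩ := Subgroup.mem_zpowers_iff.mp hy
      exact (Commute.zpow_zpow_self g b a).eq
  have hdvd := F.heven _ hHne (by rw [← hs]; exact Subgroup.orderOf_dvd_natCard _ hsH)
  have hgo : g ^ (4 * Nat.card P) = 1 :=
    orderOf_dvd_iff_pow_eq_one.mp ((Subgroup.orderOf_dvd_natCard _ hgH).trans hdvd)
  by_cases hx1 : g ^ 4 = 1
  · obtain ⟨_, hconj⟩ := F.two_elt oz (g := g) (k := 2) (by norm_num; exact hx1) hst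
    obtain ⟨c, hc⟩ := isConj_iff.mp hconj
    refine ⟨c, ?_⟩
    rw [← hc]
    have : c⁻¹ * (c * z * c⁻¹) * c = z := by group
    rw [this]; exact hz
  · obtain ⟨k, hk⟩ := F.card_eq
    have hxq : (g ^ 4) ^ (3 ^ k) = 1 := by rw [← hk, ← pow_mul]; exact hgo
    obtain ⟨a, ha⟩ := exists_conj_mem_sylow P hxq
    refine ⟨a, ?_⟩
    have hx'1 : a⁻¹ * g ^ 4 * a ≠ 1 := by
      intro h
      apply hx1
      have := congrArg (fun x => a * x * a⁻¹) h
      simpa [mul_assoc] using this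
    have hfix : (a⁻¹ * g * a)⁻¹ * (a⁻¹ * g ^ 4 * a) * (a⁻¹ * g * a) = a⁻¹ * g ^ 4 * a := by
      calc (a⁻¹ * g * a)⁻¹ * (a⁻¹ * g ^ 4 * a) * (a⁻¹ * g * a)
          = a⁻¹ * (g⁻¹ * g ^ 4 * g) * a := by group
        _ = a⁻¹ * g ^ 4 * a := by
            congr 2
            group
    have hN : a⁻¹ * g * a ∈ nP P :=
      F.ti _ (F.P_le_C ha) hx'1 _ (by rw [hfix]; exact F.P_le_C ha)
    by_contra hC
    have h5 := (F.inv_all hz oz hz₁N hz₁C oz₁ hN hC).1 _ (F.P_le_C ha)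
    rw [hfix] at h5
    apply hx'1
    apply eq_one_of_pow_coprime F.cop2 _ (F.pow_card ha)
    rw [sq]
    nth_rewrite 2 [h5]
    group

theorem FG5.false (F : FG5 P) : False := by
  obtain ⟨z, hz, oz⟩ := F.exists_z
  obtain ⟨S, z₁, _, hz₁N, hz₁C, oz₁⟩ := F.exists_S hz oz
  have D : ExcData (cP P) (nP P) (S : Subgroup G) (Nat.card P) (nP P).index z :=
    { hq := F.qpos
      cardC := F.hC
      cardN := F.hN
      cardG := by rw [← F.hN, Subgroup.card_mul_index]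
      comm := F.comm
      hCN := F.C_le_N
      z₀C := hz
      oz₀ := oz
      cardV := F.card_sylow2 S
      hV := F.S_invol S
      uniq := fun c hc oc => F.uniq hz oz hc oc
      cj := fun s hs => (F.two_elt oz (g := s) (k := 1)
        (by rw [pow_one, ← hs, pow_orderOf_eq_one]) (ne_one_of_orderOf_two hs)).2
      cent := F.cent hz oz
      ti := F.ti
      inv := fun x hx hxC => (F.inv_all hz oz hz₁N hz₁C oz₁ hx hxC).1
      invol := fun x hx hxC => (F.inv_all hz oz hz₁N hz₁C oz₁ hx hxC).2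
      prod := F.prod hz oz hz₁N hz₁C oz₁
      u4 := by
        obtain ⟨u, hu, hu1⟩ := F.exists_u
        exact ⟨u, F.P_le_C hu, fun h4 => hu1 (eq_one_of_pow_coprime F.cop4 h4 (F.pow_card hu))⟩ }
  have := Fintype.ofFinite G
  exact D.false

end three

end Cfsg.Agent.Lib.Helper73
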